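import Cfsg.Prelude.Def_GeometricClasses
import Cfsg.Agent.Lib.Linear.SubfieldBasic
import Cfsg.Agent.Lib.Linear.DicksonTwo

set_option autoImplicit false
open Cfsg

namespace Cfsg.Lib.Linear.SLMax.Subf

open scoped Matrix
open Cfsg.Lib.Linear Cfsg.Lib.Linear.TVec Cfsg.Lib.Linear.Rat0

theorem maximal_conj {G : Type*} [Group G] {K H : Subgroup G} (P : G)
    (hK : K.map (MulAut.conj P).toMonoidHom = K) (h : Cfsg.Geo.IsMaximalIn K H) :
    Cfsg.Geo.IsMaximalIn K (H.map (MulAut.conj P).toMonoidHom) := by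
  have hinj : Function.Injective (MulAut.conj P).toMonoidHom := (MulAut.conj P).injective
  have hsur : Function.Surjective (MulAut.conj P).toMonoidHom := (MulAut.conj P).surjective
  refine ⟨hK ▸ (Subgroup.map_lt_map_iff_of_injective hinj).mpr h.1, fun M h1 h2 => ?_⟩
  have h1' : H ≤ M.comap (MulAut.conj P).toMonoidHom := Subgroup.map_le_iff_le_comap.mp h1
  have h2' : M.comap (MulAut.conj P).toMonoidHom ≤ K := by
    rw [← Subgroup.map_le_map_iff_of_injective hinj,
      Subgroup.map_comap_eq_self_of_surjective hsur, hK]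
    exact h2
  rcases h.2 _ h1' h2' with e | e
  · exact Or.inl (by rw [← e, Subgroup.map_comap_eq_self_of_surjective hsur])
  · exact Or.inr (by rw [← hK, ← e, Subgroup.map_comap_eq_self_of_surjective hsur])

variable {F : Type*} [Field F] {n : ℕ} (F₀ : Subfield F) {L : Subgroup (GL (Fin n) F)}

/-- The group of the statement for `P = 1`. -/
def base (n : ℕ) : Subgroup (GL (Fin n) F) :=
  Cfsg.Geo.subfieldSubgroup F₀ 1 ⊓ Cfsg.Geo.specialLinear (Fin n) F

def CaseA (L : Subgroup (GL (Fin n) F)) : Prop :=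
  ∃ z ψ : Fin n → F₀, z ≠ 0 ∧ ψ ≠ 0 ∧ ψ ⬝ᵥ z = 0 ∧
    ∃ c : F, c ∉ F₀ ∧ InT L (rv F₀ z) (c • rv F₀ ψ)

variable {F₀}

theorem rat (hN : base F₀ n ≤ L) (z ψ : Fin n → F₀) (h : ψ ⬝ᵥ z = 0) :
    InT L (rv F₀ z) (rv F₀ ψ) := by
  have h' : rv F₀ ψ ⬝ᵥ rv F₀ z = 0 := by rw [rv_dot, h]; rfl
  refine ⟨h', hN (Subgroup.mem_inf.mpr
    ⟨(mem_subfieldSubgroup_one F₀ _).mpr ⟨1, one_ne_zero, fun i j => ?_⟩, tv_mem_SL _ _ _⟩)⟩
  rw [one_mul, coe_tv, tvMat, Matrix.add_apply, Matrix.vecMulVec_apply, Matrix.one_apply]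
  refine F₀.add_mem ?_ (F₀.mul_mem (z i).2 (ψ j).2)
  split_ifs
  · exact F₀.one_mem
  · exact F₀.zero_mem

theorem dot0 {z ψ : Fin n → F₀} (c : F) (h : ψ ⬝ᵥ z = 0) : (c • rv F₀ ψ) ⬝ᵥ rv F₀ z = 0 := by
  rw [smul_dotProduct, rv_dot, h]
  simp

theorem dot1 {z ψ : Fin n → F₀} (c : F) (h : ψ ⬝ᵥ z = 1) : (c • rv F₀ ψ) ⬝ᵥ rv F₀ z = c := by
  rw [smul_dotProduct, rv_dot, h]
  simp

theorem spread1 (hn : 3 ≤ n) (hN : base F₀ n ≤ L) {z ψ : Fin n → F₀} (hψ : ψ ≠ 0) {c : F}
    (h : InT L (rv F₀ z) (c • rv F₀ ψ)) (b : Fin n → F₀) (hb : b ⬝ᵥ z = 0) :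
    InT L (rv F₀ z) (c • rv F₀ b) := by
  have step : ∀ φ b : Fin n → F₀, InT L (rv F₀ z) (c • rv F₀ φ) → b ⬝ᵥ z = 0 →
      (∀ t : F₀, φ ≠ t • b) → InT L (rv F₀ z) (c • rv F₀ b) := by
    intro φ b hφ hb hne
    obtain ⟨w, hw, hw'⟩ := exists_dot_pair hne
    have h1 := inT_comm hφ (rat hN w b hw) (by rw [rv_dot, hb]; rfl)
    rwa [dot1 c hw'] at h1
  by_cases hp : ∀ t : F₀, ψ ≠ t • b
  · exact step ψ b h hb hp
  push Not at hp
  obtain ⟨t₀, ht₀⟩ := hp
  obtain ⟨b', hb', -, hne⟩ := exists_perp_notMem (K := F₀) (by simpa using hn) z b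
  refine step b' b (step ψ b' h hb' fun t ht => ?_) hb hne
  have ht0 : t ≠ 0 := fun e => hψ (by rw [ht, e, zero_smul])
  refine hne (t⁻¹ * t₀) ?_
  rw [← smul_smul, ← ht₀, ht, smul_smul, inv_mul_cancel₀ ht0, one_smul]

theorem spread2 (hn : 3 ≤ n) (hN : base F₀ n ≤ L) {z₀ : Fin n → F₀} (hz₀ : z₀ ≠ 0) {c : F}
    (h : ∀ b, b ⬝ᵥ z₀ = 0 → InT L (rv F₀ z₀) (c • rv F₀ b)) (z b : Fin n → F₀)
    (hb : b ⬝ᵥ z = 0) : InT L (rv F₀ z) (c • rv F₀ b) := by
  by_cases hp : ∀ t : F₀, z₀ ≠ t • z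
  · obtain ⟨a, ha, ha'⟩ := exists_dot_pair hp
    obtain ⟨b₁, hb₁, h1, h2⟩ := exists_perp_pair (K := F₀) (by simpa using hn) z₀ z
    rw [dotProduct_comm] at h1 h2 ha ha'
    have h3 := inT_comm (rat hN z a ha) (h b₁ h1) (dot0 c h2)
    rw [rv_dot, ha', OneMemClass.coe_one, one_smul] at h3
    exact spread1 hn hN hb₁ h3 b hb
  push Not at hp
  obtain ⟨t, ht⟩ := hp
  have ht0 : t ≠ 0 := fun e => hz₀ (by rw [ht, e, zero_smul])
  have hz : z = t⁻¹ • z₀ := by rw [ht, smul_smul, inv_mul_cancel₀ ht0, one_smul]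
  have hb0 : (t⁻¹ • b) ⬝ᵥ z₀ = 0 := by
    rw [ht, smul_dotProduct, dotProduct_smul, hb, smul_zero, smul_zero]
  have h1 := h _ hb0
  rw [rv_smul, smul_comm] at h1
  rw [hz, rv_smul]
  exact inT_smul_left h1

theorem caseA_full [Finite F] {r : ℕ} (hr : r.Prime) (hcard : Nat.card F = Nat.card F₀ ^ r)
    (hn : 3 ≤ n) (hN : base F₀ n ≤ L) (hA : CaseA F₀ L) :
    Cfsg.Geo.specialLinear (Fin n) F ≤ L := by
  obtain ⟨z₀, ψ₀, hz₀, hψ₀, -, c, hc, hin⟩ := hA
  let good : F → Prop := fun x =>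
    ∀ z b : Fin n → F₀, b ⬝ᵥ z = 0 → InT L (rv F₀ z) (x • rv F₀ b)
  let S : Subalgebra F₀ F :=
    { carrier := {x | good x}
      mul_mem' := by
        intro x y hx hy z b hb
        by_cases hz : z = 0
        · rw [hz, show rv F₀ (0 : Fin n → F₀) = 0 from funext fun _ => rfl]
          exact inT_zero_left _
        obtain ⟨w, hw, -, hwz⟩ := exists_perp_notMem (K := F₀) (by simpa using hn) b z
        obtain ⟨φ, hφ, hφ'⟩ := exists_dot_pair hwz
        rw [dotProduct_comm] at hφ hφ' hw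
        have h1 := inT_comm (hx z φ hφ) (hy w b hw) (dot0 y hb)
        rwa [dot1 x hφ', smul_smul] at h1
      add_mem' := by
        intro x y hx hy z b hb
        rw [add_smul]
        exact inT_add_right (hx z b hb) (hy z b hb)
      algebraMap_mem' := by
        intro a z b hb
        exact rat hN z (a • b) (by rw [smul_dotProduct, hb, smul_zero]) }
  have hcS : c ∈ S := fun z b hb => spread2 hn hN hz₀ (spread1 hn hN hψ₀ hin) z b hb
  have hfr : (Module.finrank F₀ F).Prime := by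
    have h1 := Module.natCard_eq_pow_finrank (K := F₀) (V := F)
    rw [hcard] at h1
    rwa [← Nat.pow_right_injective Finite.one_lt_card h1]
  haveI := Subalgebra.isSimpleOrder_of_finrank_prime F₀ F hfr
  have htop : S = ⊤ := by
    refine (eq_bot_or_eq_top S).resolve_left fun hb => hc ?_
    rw [hb, Algebra.mem_bot] at hcS
    obtain ⟨a, ha⟩ := hcS
    exact ha ▸ a.2
  refine SL_le_of_elem fun i j hij x => ?_
  have hx : x ∈ S := by rw [htop]; exact Algebra.mem_top
  have h := hx (Pi.single i 1) (Pi.single j 1) (by simp [hij])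
  rwa [rv_single, rv_single] at h

theorem caseA_scaled (hn : 3 ≤ n) (hN : base F₀ n ≤ L) {u a : Fin n → F} (h : InT L u a)
    (α : F) (z : Fin n → F₀) (hu : u = α • rv F₀ z) (i j : Fin n) (hij : u i * a j ∉ F₀) :
    CaseA F₀ L := by
  subst hu
  have hz : z ≠ 0 := fun e => hij (by simp [e, rv])
  obtain ⟨φ, hφ, h1, h2⟩ := exists_perp_pair (K := F₀) (by simpa using hn) z (Pi.single j 1)
  rw [dotProduct_comm] at h1 h2
  have h3 := inT_comm (inT_smul_right h) (rat hN (Pi.single j 1) φ h2) (by rw [rv_dot, h1]; rfl)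
  rw [rv_single, dotProduct_single, mul_one, Pi.smul_apply, smul_eq_mul] at h3
  refine ⟨z, φ, hz, hφ, h1, α * a j, fun hm => hij ?_, h3⟩
  rw [Pi.smul_apply, smul_eq_mul, mul_comm α, mul_assoc]
  exact F₀.mul_mem (z i).2 hm

theorem caseA_of (hn : 3 ≤ n) (hN : base F₀ n ≤ L) {u a : Fin n → F} (h : InT L u a)
    {ψ : Fin n → F₀} (hψ : ψ ≠ 0) (hu : rv F₀ ψ ⬝ᵥ u = 0) (i j : Fin n)
    (hij : u i * a j ∉ F₀) : CaseA F₀ L := by
  obtain ⟨β, hβ, hin⟩ : ∃ β : F, β ≠ 0 ∧ InT L u (β • rv F₀ ψ) := by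
    by_cases hw : ∀ w : Fin n → F₀, ψ ⬝ᵥ w = 0 → a ⬝ᵥ rv F₀ w = 0
    · obtain ⟨k, hk⟩ := Function.ne_iff.mp hψ
      have hk' : (ψ k : F) ≠ 0 := fun e => hk (Subtype.ext e)
      have he : a = (a k / ψ k) • rv F₀ ψ := by
        funext l
        have h1 := hw (Pi.single l 1 - (ψ l / ψ k) • Pi.single k 1) (by
          rw [dotProduct_sub, dotProduct_smul, dotProduct_single, dotProduct_single, mul_one,
            mul_one, smul_eq_mul, div_mul_cancel₀ _ hk, sub_self])
        have e : rv F₀ (Pi.single l (1 : F₀) - (ψ l / ψ k) • Pi.single k 1) =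
            Pi.single l 1 - ((ψ l : F) / ψ k) • Pi.single k 1 := by
          funext m
          simp [rv, Pi.single_apply, apply_ite Subtype.val]
        rw [e, dotProduct_sub, dotProduct_smul, dotProduct_single, dotProduct_single, mul_one,
          mul_one, smul_eq_mul, sub_eq_zero] at h1
        rw [h1, Pi.smul_apply, smul_eq_mul]
        simp only [rv]
        ring
      refine ⟨a k / ψ k, fun e => hij ?_, he ▸ h⟩
      rw [e, zero_smul] at he
      simp [he]
    · push Not at hw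
      obtain ⟨w, hw, hw'⟩ := hw
      exact ⟨a ⬝ᵥ rv F₀ w, hw', inT_comm h (rat hN w ψ hw) hu⟩
  by_cases hall : ∀ k, β * u k ∈ F₀
  · refine caseA_scaled hn hN h β⁻¹ (fun k => ⟨_, hall k⟩) ?_ i j hij
    funext k
    simp [rv, hβ]
  push Not at hall
  obtain ⟨k, hk⟩ := hall
  obtain ⟨z, hz, h1, h2⟩ := exists_perp_pair (K := F₀) (by simpa using hn) ψ (Pi.single k 1)
  have h3 := inT_comm (rat hN z (Pi.single k 1) h2) (inT_smul_left (c := β) hin)
    (by rw [rv_dot, h1]; rfl)
  rw [rv_single, single_dotProduct, one_mul, Pi.smul_apply, smul_eq_mul] at h3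
  exact ⟨z, ψ, hz, hψ, h1, _, hk, h3⟩

theorem ratG_of (hn : 3 ≤ n) (hN : base F₀ n ≤ L) (hA : ¬CaseA F₀ L) {h : GL (Fin n) F}
    (hh : h ∈ L) {c ψ : Fin n → F₀} (hc : c ≠ 0) (hψ : ψ ≠ 0)
    (he : rv F₀ ψ ⬝ᵥ ((h : Matrix (Fin n) (Fin n) F) *ᵥ rv F₀ c) = 0) : RatG F₀ h := by
  set M := (h : Matrix (Fin n) (Fin n) F)
  set N := ((h⁻¹ : GL (Fin n) F) : Matrix (Fin n) (Fin n) F)
  have hNM : N * M = 1 := by rw [← Units.val_mul, inv_mul_cancel, Units.val_one]
  have key : ∀ c ψ φ : Fin n → F₀, ψ ≠ 0 → rv F₀ ψ ⬝ᵥ (M *ᵥ rv F₀ c) = 0 → φ ⬝ᵥ c = 0 →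
      ∀ i j, (M *ᵥ rv F₀ c) i * (rv F₀ φ ᵥ* N) j ∈ F₀ := by
    intro c ψ φ hψ h0 hφ i j
    by_contra hij
    exact hA (caseA_of hn hN (inT_conj hh (rat hN c φ hφ)) hψ h0 i j hij)
  have hu : M *ᵥ rv F₀ c ≠ 0 := by
    intro e
    apply rv_ne_zero F₀ hc
    have := congrArg (N *ᵥ ·) e
    simpa [Matrix.mulVec_mulVec, hNM] using this
  obtain ⟨i, hi⟩ := Function.ne_iff.mp hu
  refine ⟨((M *ᵥ rv F₀ c) i)⁻¹, inv_ne_zero hi, fun k l => ?_⟩
  obtain ⟨φ, hφ, h1, h2⟩ := exists_perp_pair (K := F₀) (by simpa using hn) c (Pi.single l 1)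
  rw [dotProduct_comm] at h1 h2
  have ha : rv F₀ φ ᵥ* N ≠ 0 := by
    intro e
    apply rv_ne_zero F₀ hφ
    have := congrArg (· ᵥ* M) e
    simpa [Matrix.vecMul_vecMul, hNM] using this
  obtain ⟨j, hj⟩ := Function.ne_iff.mp ha
  let φ₂ : Fin n → F₀ := fun t => ⟨_, key c ψ φ hψ he h1 i t⟩
  have hφ₂ : φ₂ ≠ 0 := fun e => mul_ne_zero hi hj (congrArg Subtype.val (congrFun e j))
  have e2 : rv F₀ φ₂ = ((M *ᵥ rv F₀ c) i) • (rv F₀ φ ᵥ* N) := rfl
  have h3 := key (Pi.single l 1) φ₂ φ hφ₂ (by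
    rw [e2, smul_dotProduct, ← Matrix.dotProduct_mulVec, Matrix.mulVec_mulVec, hNM,
      Matrix.one_mulVec, rv_dot, h2]
    simp) h2 k j
  rw [rv_single, Matrix.mulVec_single_one] at h3
  have h4 := F₀.div_mem h3 (φ₂ j).2
  change M.col l k * (rv F₀ φ ᵥ* N) j / ((M *ᵥ rv F₀ c) i * (rv F₀ φ ᵥ* N) j) ∈ F₀ at h4
  rw [mul_div_mul_right _ _ hj, div_eq_inv_mul] at h4
  exact h4

/-- A rational involution of determinant one moving only the first `m` coordinates. -/
def Cfg (j : GL (Fin n) F) (m : ℕ) : Prop :=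
  j ∈ base F₀ n ∧ (∀ a b, (j : Matrix (Fin n) (Fin n) F) a b ∈ F₀) ∧ j * j = 1 ∧ j ≠ 1 ∧
  (∀ v : Fin n → F, (∀ i : Fin n, i.val < m → v i = 0) →
    (j : Matrix (Fin n) (Fin n) F) *ᵥ v = v) ∧
  ∀ (v : Fin n → F) (i : Fin n), m ≤ i.val → ((j : Matrix (Fin n) (Fin n) F) *ᵥ v) i = v i

theorem exists_moved {g : GL (Fin n) F} (hg : g ≠ 1) :
    ∃ l, (g : Matrix (Fin n) (Fin n) F) *ᵥ Pi.single l 1 ≠ Pi.single l 1 := by
  by_contra hc
  push Not at hc
  refine hg (Units.ext (Matrix.ext fun a b => ?_))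
  have h := congrFun (hc b) a
  rw [Matrix.mulVec_single_one] at h
  rw [Units.val_one, Matrix.one_apply]
  simpa [Pi.single_apply] using h

/-- The vector `g e_l - e_l` of a rational matrix, over the subfield. -/
def movedVec (g : GL (Fin n) F) (hg : ∀ a b, (g : Matrix (Fin n) (Fin n) F) a b ∈ F₀)
    (l : Fin n) : Fin n → F₀ :=
  fun a => ⟨_, hg a l⟩ - if a = l then 1 else 0

theorem rv_movedVec (g : GL (Fin n) F) (hg : ∀ a b, (g : Matrix (Fin n) (Fin n) F) a b ∈ F₀)
    (l : Fin n) : rv F₀ (movedVec g hg l) =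
      (g : Matrix (Fin n) (Fin n) F) *ᵥ Pi.single l 1 - Pi.single l 1 := by
  funext a
  rw [Pi.sub_apply, Matrix.mulVec_single_one]
  simp [rv, movedVec, Pi.single_apply, apply_ite Subtype.val]

theorem movedVec_ne (g : GL (Fin n) F) (hg : ∀ a b, (g : Matrix (Fin n) (Fin n) F) a b ∈ F₀)
    {l : Fin n} (hl : (g : Matrix (Fin n) (Fin n) F) *ᵥ Pi.single l 1 ≠ Pi.single l 1) :
    movedVec g hg l ≠ 0 := fun e =>
  hl (sub_eq_zero.mp (by rw [← rv_movedVec g hg l, e]; funext a; rfl))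

theorem ratG_of_commute (hn : 3 ≤ n) (hN : base F₀ n ≤ L) (hA : ¬CaseA F₀ L) {j w : GL (Fin n) F}
    {m : ℕ} (hj : Cfg (F₀ := F₀) j m) (i : Fin n)
    (hsupp : ∀ v : Fin n → F, ((j : Matrix (Fin n) (Fin n) F) *ᵥ v) i = v i)
    (hw : w ∈ L) (hwj : w * j = j * w) :
    RatG F₀ w := by
  obtain ⟨-, hjr, -, hj1, -, -⟩ := hj
  obtain ⟨l, hl⟩ := exists_moved hj1
  refine ratG_of (by omega) hN hA hw (movedVec_ne j hjr hl)
    (ψ := Pi.single i 1) (fun e => one_ne_zero (α := F₀) ?_) ?_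
  · simpa using congrFun e i
  rw [rv_single, single_dotProduct, one_mul, rv_movedVec, Matrix.mulVec_sub,
    Matrix.mulVec_mulVec, ← Units.val_mul, hwj, Units.val_mul, ← Matrix.mulVec_mulVec,
    Pi.sub_apply, hsupp, sub_self]

theorem entries_mem [Finite F] (hn : 4 ≤ n) (hsq : ∀ c : F, c * c ∈ F₀ → c ∈ F₀)
    {w : GL (Fin n) F} (hw2 : w * w = 1) (hw : RatG F₀ w) :
    ∀ a b, (w : Matrix (Fin n) (Fin n) F) a b ∈ F₀ := by
  obtain ⟨c, hc, h⟩ := hw
  let A : Matrix (Fin n) (Fin n) F₀ := Matrix.of fun a b => ⟨_, h a b⟩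
  have hA : A.map F₀.subtype = c • (w : Matrix (Fin n) (Fin n) F) := rfl
  have hcc : c * c ∈ F₀ := by
    have h1 : ((A * A).map F₀.subtype) ⟨0, by omega⟩ ⟨0, by omega⟩ = c * c := by
      rw [Matrix.map_mul, hA, Matrix.smul_mul, Matrix.mul_smul, smul_smul, ← Units.val_mul, hw2,
        Units.val_one, Matrix.smul_apply, Matrix.one_apply_eq, smul_eq_mul, mul_one]
    rw [← h1]
    exact ((A * A) _ _).2
  have hcm : c ∈ F₀ := hsq c hcc
  intro a b
  have := F₀.mul_mem (F₀.inv_mem hcm) (h a b)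
  rwa [← mul_assoc, inv_mul_cancel₀ hc, one_mul] at this

theorem cfg_mk {j : GL (Fin n) F} {m : ℕ} (hS : j ∈ Cfsg.Geo.specialLinear (Fin n) F)
    (hr : ∀ a b, (j : Matrix (Fin n) (Fin n) F) a b ∈ F₀) (h2 : j * j = 1) (h1 : j ≠ 1)
    (hfix : ∀ v : Fin n → F, (∀ i : Fin n, i.val < m → v i = 0) →
      (j : Matrix (Fin n) (Fin n) F) *ᵥ v = v)
    (hsupp : ∀ (v : Fin n → F) (i : Fin n), m ≤ i.val →
      ((j : Matrix (Fin n) (Fin n) F) *ᵥ v) i = v i) : Cfg (F₀ := F₀) j m :=
  ⟨Subgroup.mem_inf.mpr ⟨(mem_subfieldSubgroup_one F₀ _).mpr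
    ⟨1, one_ne_zero, fun a b => by rw [one_mul]; exact hr a b⟩, hS⟩, hr, h2, h1, hfix, hsupp⟩

theorem exists_pair (hn : 4 ≤ n) : ∃ j k : GL (Fin n) F, Cfg (F₀ := F₀) j 2 ∧
    Cfg (F₀ := F₀) k 4 ∧ (∀ C : GL (Fin n) F, k ≠ C * j * C⁻¹) ∧ ((2 : F) = 0 →
      ∀ v : Fin n → F, ((k : Matrix (Fin n) (Fin n) F) *ᵥ v) ⟨1, by omega⟩ = v ⟨1, by omega⟩) := by
  classical
  by_cases h2 : (2 : F) = 0
  · let e : Fin 4 → Fin n := Fin.castLE hn
    have he : ∀ a b, a ≠ b → e a ≠ e b := fun a b h h' => h (Fin.castLE_injective hn h')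
    let J : Matrix (Fin n) (Fin n) F := 1 + Matrix.single (e 0) (e 1) 1
    let K : Matrix (Fin n) (Fin n) F := J + Matrix.single (e 2) (e 3) 1
    have hJJ : J * J = 1 := by
      simp only [J, add_mul, mul_add, one_mul, mul_one,
        Matrix.single_mul_single_of_ne _ _ _ _ (he 1 0 (by decide))]
      rw [add_zero, add_assoc, ← Matrix.single_add, one_add_one_eq_two, h2, Matrix.single_zero,
        add_zero]
    have hKK : K * K = 1 := by
      simp only [K, add_mul, mul_add, hJJ]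
      simp only [J, add_mul, mul_add, one_mul, mul_one,
        Matrix.single_mul_single_of_ne _ _ _ _ (he 1 2 (by decide)),
        Matrix.single_mul_single_of_ne _ _ _ _ (he 3 2 (by decide)),
        Matrix.single_mul_single_of_ne _ _ _ _ (he 3 0 (by decide))]
      simp only [add_zero]
      rw [add_assoc, ← Matrix.single_add, one_add_one_eq_two, h2, Matrix.single_zero, add_zero]
    have hdet : ∀ A : Matrix (Fin n) (Fin n) F, A * A = 1 → A.det = 1 := by
      intro A hA
      have h1 : A.det * A.det = 1 := by rw [← Matrix.det_mul, hA, Matrix.det_one]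
      have h3 : (A.det - 1) * (A.det - 1) = 0 := by linear_combination h1 + (1 - A.det) * h2
      exact sub_eq_zero.mp (mul_self_eq_zero.mp h3)
    let j : GL (Fin n) F := ⟨J, J, hJJ, hJJ⟩
    let k : GL (Fin n) F := ⟨K, K, hKK, hKK⟩
    have hJv : ∀ v, J *ᵥ v = v + Pi.single (e 0) (v (e 1)) := by
      intro v
      rw [show J = 1 + Matrix.single (e 0) (e 1) 1 from rfl, Matrix.add_mulVec, Matrix.one_mulVec,
        Matrix.single_mulVec, one_mul]
      congr 1
    have hKv : ∀ v, K *ᵥ v = v + Pi.single (e 0) (v (e 1)) + Pi.single (e 2) (v (e 3)) := by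
      intro v
      rw [show K = J + Matrix.single (e 2) (e 3) 1 from rfl, Matrix.add_mulVec, hJv,
        Matrix.single_mulVec, one_mul]
      congr 1
    have hsin : ∀ a b c d : Fin n, Matrix.single a b (1 : F) c d ∈ F₀ := by
      intro a b c d
      rw [Matrix.single_apply]
      split_ifs
      · exact F₀.one_mem
      · exact F₀.zero_mem
    have hJr : ∀ a b, J a b ∈ F₀ := by
      intro a b
      refine F₀.add_mem ?_ (hsin _ _ a b)
      rw [Matrix.one_apply]
      split_ifs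
      · exact F₀.one_mem
      · exact F₀.zero_mem
    refine ⟨j, k, cfg_mk ?_ hJr (Units.ext hJJ) ?_ ?_ ?_, cfg_mk ?_
      (fun a b => F₀.add_mem (hJr a b) (hsin _ _ a b)) (Units.ext hKK) ?_ ?_ ?_, ?_, fun _ v => ?_⟩
    · exact Units.ext (hdet J hJJ)
    · intro h
      have := congrFun (congrFun (congrArg (Units.val (α := Matrix (Fin n) (Fin n) F)) h) (e 0)) (e 1)
      simp [j, J, he 0 1 (by decide)] at this
    · intro v hv
      show J *ᵥ v = v
      rw [hJv, hv (e 1) (by simp [e]), Pi.single_zero, add_zero]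
    · intro v i hi
      show (J *ᵥ v) i = v i
      rw [hJv, Pi.add_apply, Pi.single_eq_of_ne, add_zero]
      intro h
      simp [h, e] at hi
    · exact Units.ext (hdet K hKK)
    · intro h
      have := congrFun (congrFun (congrArg (Units.val (α := Matrix (Fin n) (Fin n) F)) h) (e 0)) (e 1)
      simp [k, K, J, he 0 1 (by decide), Matrix.single_apply, he 2 0 (by decide)] at this
    · intro v hv
      show K *ᵥ v = v
      rw [hKv, hv (e 1) (by simp [e]), hv (e 3) (by simp [e]), Pi.single_zero, Pi.single_zero,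
        add_zero, add_zero]
    · intro v i hi
      show (K *ᵥ v) i = v i
      rw [hKv, Pi.add_apply, Pi.add_apply, Pi.single_eq_of_ne, Pi.single_eq_of_ne, add_zero,
        add_zero]
      · intro h
        simp [h, e] at hi
      · intro h
        simp [h, e] at hi
    · intro C hC
      set u := fun a => (C : Matrix (Fin n) (Fin n) F) a (e 0)
      set v := fun b => ((C⁻¹ : GL (Fin n) F) : Matrix (Fin n) (Fin n) F) (e 1) b
      have hval : ∀ a b, K a b = (1 : Matrix (Fin n) (Fin n) F) a b + u a * v b := by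
        intro a b
        have := congrFun (congrFun (congrArg (Units.val (α := Matrix (Fin n) (Fin n) F)) hC) a) b
        rw [show (k : Matrix (Fin n) (Fin n) F) = K from rfl, Units.val_mul, Units.val_mul,
          show (j : Matrix (Fin n) (Fin n) F) = 1 + Matrix.single (e 0) (e 1) 1 from rfl, mul_add,
          add_mul, mul_one, ← Units.val_mul, mul_inv_cancel, Units.val_one] at this
        rw [this, Matrix.add_apply]
        congr 1
        rw [Matrix.mul_apply, Finset.sum_eq_single (e 1)]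
        · rw [Matrix.mul_single_apply_same, mul_one]
        · intro t _ ht
          rw [Matrix.mul_single_apply_of_ne _ _ _ _ _ ht, zero_mul]
        · intro h
          exact absurd (Finset.mem_univ _) h
      have a01 := hval (e 0) (e 1)
      have a23 := hval (e 2) (e 3)
      have a03 := hval (e 0) (e 3)
      simp [K, J, Matrix.single_apply, he 0 1 (by decide), he 2 3 (by decide), he 0 3 (by decide),
        he 0 2 (by decide), he 2 0 (by decide), he 1 3 (by decide)] at a01 a23 a03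
      rcases a03 with h | h <;> simp [h] at a01 a23
    · show (K *ᵥ v) ⟨1, _⟩ = v ⟨1, _⟩
      rw [hKv, Pi.add_apply, Pi.add_apply, Pi.single_eq_of_ne, Pi.single_eq_of_ne, add_zero,
        add_zero] <;> simp [e, Fin.ext_iff]
  · let d : ℕ → Fin n → F := fun m i => if i.val < m then -1 else 1
    have hdd : ∀ m, Matrix.diagonal (d m) * Matrix.diagonal (d m) = 1 := by
      intro m
      rw [Matrix.diagonal_mul_diagonal, ← Matrix.diagonal_one]
      congr 1
      funext i
      simp only [d]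
      split_ifs <;> simp
    let g : ℕ → GL (Fin n) F := fun m => ⟨Matrix.diagonal (d m), Matrix.diagonal (d m), hdd m, hdd m⟩
    have hcnt : ∀ m, m ≤ n → (Finset.univ.filter fun i : Fin n => i.val < m).card = m := by
      intro m hm
      rw [← Finset.card_range m]
      refine Finset.card_bij (fun i _ => i.val) (fun i hi => ?_) (fun i _ j _ h => Fin.ext h)
        (fun b hb => ⟨⟨b, lt_of_lt_of_le (Finset.mem_range.mp hb) hm⟩, ?_, rfl⟩)
      · simpa using hi
      · simpa using hb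
    have hcfg : ∀ m, 1 ≤ m → m ≤ n → Even m → Cfg (F₀ := F₀) (g m) m := by
      intro m hm hmn hev
      refine cfg_mk (Units.ext ?_) ?_ (Units.ext (hdd m)) ?_ ?_ ?_
      · show (Matrix.diagonal (d m)).det = 1
        rw [Matrix.det_diagonal, Finset.prod_ite]
        simp [hcnt m hmn, hev.neg_one_pow]
      · intro a b
        show Matrix.diagonal (d m) a b ∈ F₀
        rw [Matrix.diagonal_apply]
        simp only [d]
        split_ifs
        · exact F₀.neg_mem F₀.one_mem
        · exact F₀.one_mem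
        · exact F₀.zero_mem
      · intro h
        have := congrFun (congrFun (congrArg (Units.val (α := Matrix (Fin n) (Fin n) F)) h) ⟨0, by omega⟩) ⟨0, by omega⟩
        simp [g, d, show 0 < m by omega] at this
        exact h2 (by linear_combination -this)
      · intro v hv
        funext i
        show (Matrix.diagonal (d m) *ᵥ v) i = v i
        rw [Matrix.mulVec_diagonal]
        simp only [d]
        split_ifs with hi
        · simp [hv i hi]
        · simp
      · intro v i hi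
        show (Matrix.diagonal (d m) *ᵥ v) i = v i
        rw [Matrix.mulVec_diagonal]
        simp [d, not_lt.mpr hi]
    refine ⟨g 2, g 4, hcfg 2 (by omega) (by omega) even_two, hcfg 4 (by omega) hn ⟨2, rfl⟩, ?_,
      fun h => absurd h h2⟩
    intro C hC
    have h := congrArg (fun x : GL (Fin n) F => (x : Matrix (Fin n) (Fin n) F).trace) hC
    rw [Units.val_mul, Units.val_mul, Matrix.trace_units_conj] at h
    have htr : ∀ m, m ≤ n → (Matrix.diagonal (d m)).trace = (n : F) - 2 * m := by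
      intro m hm
      rw [Matrix.trace_diagonal]
      have e : ∀ i, d m i = 1 - 2 * (if i.val < m then 1 else 0) := by
        intro i
        simp only [d]
        split_ifs <;> ring
      simp_rw [e]
      rw [Finset.sum_sub_distrib, ← Finset.mul_sum, Finset.sum_boole, hcnt m hm]
      simp
    change (Matrix.diagonal (d 4)).trace = (Matrix.diagonal (d 2)).trace at h
    rw [htr 4 hn, htr 2 (by omega)] at h
    push_cast at h
    exact h2 (mul_self_eq_zero.mp (by linear_combination -h))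

theorem ratG_all [Finite F] (hn : 4 ≤ n) (h2 : (2 : F) = 0)
    (hsq : ∀ c : F, c * c ∈ F₀ → c ∈ F₀) (hN : base F₀ n ≤ L) (hA : ¬CaseA F₀ L)
    {h : GL (Fin n) F} (hh : h ∈ L) : RatG F₀ h := by
  obtain ⟨j, k, hj, hk, hne, hrow⟩ := exists_pair (F := F) (F₀ := F₀) (n := n) (by omega)
  obtain ⟨hjN, hjr, hj2, hj1, hjfix, hjsupp⟩ := hj
  obtain ⟨hkN, hkr, hk2, hk1, hkfix, hksupp⟩ := hk
  set k' := h * k * h⁻¹ with hk'
  have hk'2 : k' * k' = 1 := by
    rw [hk', show h * k * h⁻¹ * (h * k * h⁻¹) = h * (k * k) * h⁻¹ by group, hk2, mul_one,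
      mul_inv_cancel]
  have hji : j⁻¹ = j := inv_eq_of_mul_eq_one_right hj2
  have hki : k'⁻¹ = k' := inv_eq_of_mul_eq_one_right hk'2
  set g := j * k' with hg
  have hgi : g⁻¹ = k' * j := by rw [hg, mul_inv_rev, hji, hki]
  have hjg : SemiconjBy j g g⁻¹ := by
    show j * g = g⁻¹ * j
    rw [hgi, hg, ← mul_assoc, hj2, one_mul, mul_assoc, hj2, mul_one]
  have hkg : SemiconjBy k' g g⁻¹ := by
    show k' * g = g⁻¹ * k'
    rw [hgi, hg]
    exact (mul_assoc k' j k').symm
  have hjg' : SemiconjBy j g⁻¹ g := by simpa using hjg.inv_right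
  have hgo := pow_orderOf_eq_one g
  rcases Nat.even_or_odd' (orderOf g) with ⟨t, ht | ht⟩
  rotate_left
  · exfalso
    apply hne (h⁻¹ * g ^ t)
    have e1 : g ^ t * j = j * (g⁻¹) ^ t := (hjg'.pow_right t).eq.symm
    have e2 : g ^ t * j * (g ^ t)⁻¹ = k' := by
      have e3 : j * (g ^ t)⁻¹ = g ^ t * j := by rw [e1, inv_pow]
      rw [mul_assoc, e3, ← mul_assoc, ← pow_add]
      have : g ^ (t + t) = g⁻¹ := by
        rw [← two_mul, eq_inv_iff_mul_eq_one, ← pow_succ, ← ht, hgo]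
      rw [this, hgi, mul_assoc, hj2, mul_one]
    rw [show h⁻¹ * g ^ t * j * (h⁻¹ * g ^ t)⁻¹ = h⁻¹ * (g ^ t * j * (g ^ t)⁻¹) * h by group, e2,
      hk']
    group
  set w := g ^ t with hw
  have hpos : 0 < orderOf g := orderOf_pos g
  have hw1 : w ≠ 1 := fun e => by
    have := orderOf_le_of_pow_eq_one (n := t) (by omega) e
    omega
  have hw2 : w * w = 1 := by rw [hw, ← pow_add, ← two_mul, ← ht, hgo]
  have hwi : (g⁻¹) ^ t = w := by rw [inv_pow]; exact inv_eq_of_mul_eq_one_right hw2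
  have hwj : w * j = j * w := by
    have := (hjg.pow_right t).eq
    rw [hwi] at this
    exact this.symm
  have hwk : w * k' = k' * w := by
    have := (hkg.pow_right t).eq
    rw [hwi] at this
    exact this.symm
  have hkL : k ∈ L := hN hkN
  have hwL : w ∈ L := L.pow_mem (L.mul_mem (hN hjN) (L.mul_mem (L.mul_mem hh hkL) (L.inv_mem hh))) t
  set w' := h⁻¹ * w * h with hw'
  have hw'L : w' ∈ L := L.mul_mem (L.mul_mem (L.inv_mem hh) hwL) hh
  have hw'k : w' * k = k * w' := by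
    rw [hw', show h⁻¹ * w * h * k = h⁻¹ * (w * (h * k * h⁻¹)) * h by group, ← hk', hwk, hk']
    group
  have hw'2 : w' * w' = 1 := by
    rw [hw', show h⁻¹ * w * h * (h⁻¹ * w * h) = h⁻¹ * (w * w) * h by group, hw2, mul_one,
      inv_mul_cancel]
  have hw'1 : w' ≠ 1 := fun e => hw1 (by
    rw [show w = h * w' * h⁻¹ by rw [hw']; group, e, mul_one, mul_inv_cancel])
  have hwR := ratG_of_commute (by omega) hN hA (m := 2)
    ⟨hjN, hjr, hj2, hj1, hjfix, hjsupp⟩ ⟨2, by omega⟩ (fun v => hjsupp v _ le_rfl) hwL hwj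
  have hw'R := ratG_of_commute (by omega) hN hA (m := 4)
    ⟨hkN, hkr, hk2, hk1, hkfix, hksupp⟩ ⟨1, by omega⟩ (hrow h2) hw'L hw'k
  have hwE := entries_mem hn hsq hw2 hwR
  have hw'E := entries_mem hn hsq hw'2 hw'R
  obtain ⟨l, hl⟩ := exists_moved hw'1
  let B : Matrix (Fin n) (Fin n) F₀ := Matrix.of (fun a b => (⟨_, hwE a b⟩ : F₀)) - 1
  have hB : B.map F₀.subtype = (w : Matrix (Fin n) (Fin n) F) - 1 := by
    ext a b
    simp [B, Matrix.one_apply, apply_ite Subtype.val]
  have hdet : B.det = 0 := by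
    apply F₀.subtype.injective
    rw [RingHom.map_det, map_zero, RingHom.mapMatrix_apply, hB, ← Matrix.exists_mulVec_eq_zero_iff]
    obtain ⟨v, hv⟩ : ∃ v : Fin n → F, (w : Matrix (Fin n) (Fin n) F) *ᵥ v - v ≠ 0 := by
      obtain ⟨l, hl⟩ := exists_moved hw1
      exact ⟨_, sub_ne_zero.mpr hl⟩
    refine ⟨_, hv, ?_⟩
    rw [Matrix.sub_mulVec, Matrix.one_mulVec, Matrix.mulVec_sub, Matrix.mulVec_mulVec,
      ← Units.val_mul, hw2, Units.val_one, Matrix.one_mulVec]
    linear_combination (norm := module) (h2 • (v - (w : Matrix (Fin n) (Fin n) F) *ᵥ v))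
  obtain ⟨ψ, hψ, hψ0⟩ := Matrix.exists_vecMul_eq_zero_iff.mpr hdet
  have hψ' : rv F₀ ψ ᵥ* ((w : Matrix (Fin n) (Fin n) F) - 1) = 0 := by
    rw [← hB]
    funext b
    have := congrArg F₀.subtype (congrFun hψ0 b)
    rw [Matrix.vecMul, dotProduct, map_sum] at this
    rw [Matrix.vecMul, dotProduct]
    simpa [rv] using this
  refine ratG_of (by omega) hN hA hh (movedVec_ne w' hw'E hl) hψ ?_
  rw [rv_movedVec, Matrix.mulVec_sub, Matrix.mulVec_mulVec, ← Units.val_mul,
    show h * w' = w * h by rw [hw']; group, Units.val_mul, ← Matrix.mulVec_mulVec]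
  generalize (h : Matrix (Fin n) (Fin n) F) *ᵥ Pi.single l 1 = v
  rw [show (w : Matrix (Fin n) (Fin n) F) *ᵥ v - v =
    ((w : Matrix (Fin n) (Fin n) F) - 1) *ᵥ v by rw [Matrix.sub_mulVec, Matrix.one_mulVec],
    Matrix.dotProduct_mulVec, hψ', zero_dotProduct]

/-- An extension of odd prime degree contains no new square roots. -/
theorem mem_of_sq_mem [Finite F] {r : ℕ} (hr : r.Prime) (hfr : Module.finrank F₀ F = r)
    (hodd : Odd r) {c : F} (hc : c * c ∈ F₀) : c ∈ F₀ := by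
  haveI := IntermediateField.isSimpleOrder_of_finrank_prime F₀ F (hfr ▸ hr)
  rcases eq_bot_or_eq_top (IntermediateField.adjoin F₀ {c}) with h | h
  · rw [IntermediateField.adjoin_simple_eq_bot_iff, IntermediateField.mem_bot] at h
    obtain ⟨a, rfl⟩ := h
    exact a.2
  exfalso
  let p : Polynomial F₀ := Polynomial.X ^ 2 - Polynomial.C (⟨_, hc⟩ : F₀)
  have hp : Polynomial.aeval c p = 0 := by simp [p, pow_two]; exact sub_eq_zero.mpr rfl
  have hp0 : p ≠ 0 := Polynomial.X_pow_sub_C_ne_zero (by norm_num) _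
  have h2 := Polynomial.natDegree_le_of_dvd (minpoly.dvd F₀ c hp) hp0
  rw [Polynomial.natDegree_X_pow_sub_C, ← IntermediateField.adjoin.finrank
    (IsIntegral.of_finite F₀ c), h, IntermediateField.finrank_top', hfr] at h2
  obtain ⟨k, hk⟩ := hodd
  have := hr.two_le
  omega

/-- The embedding of `SL₂` along two vectors and two functionals in duality. -/
def embTwo (P : Matrix (Fin n) (Fin 2) F) (R : Matrix (Fin 2) (Fin n) F) (hRP : R * P = 1) :
    Matrix.SpecialLinearGroup (Fin 2) F →* GL (Fin n) F :=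
  MonoidHom.toHomUnits
    { toFun := fun A => 1 + P * ((A : Matrix (Fin 2) (Fin 2) F) - 1) * R
      map_one' := by simp
      map_mul' := fun A B => by
        have e : P * ((A : Matrix (Fin 2) (Fin 2) F) - 1) * R *
            (P * ((B : Matrix (Fin 2) (Fin 2) F) - 1) * R) =
            P * (((A : Matrix (Fin 2) (Fin 2) F) - 1) * ((B : Matrix (Fin 2) (Fin 2) F) - 1)) * R := by
          simp only [Matrix.mul_assoc]
          rw [← Matrix.mul_assoc R P, hRP, Matrix.one_mul]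
        rw [add_mul, one_mul, mul_add, mul_one, e, Matrix.SpecialLinearGroup.coe_mul]
        simp only [mul_sub, sub_mul, mul_one, one_mul, Matrix.mul_sub, Matrix.sub_mul]
        abel }

theorem coe_embTwo (P : Matrix (Fin n) (Fin 2) F) (R : Matrix (Fin 2) (Fin n) F) (hRP : R * P = 1)
    (A : Matrix.SpecialLinearGroup (Fin 2) F) :
    ((embTwo P R hRP A : GL (Fin n) F) : Matrix (Fin n) (Fin n) F) =
      1 + P * ((A : Matrix (Fin 2) (Fin 2) F) - 1) * R := rfl

open Cfsg.Lib.Linear.Dickson in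
/-- In odd characteristic the involution `-1` of the `SL₂` of a transvection and its conjugate
by a rational involution is rational, and so is the centre of the transvection. -/
theorem ratG_odd [Finite F] (hn : 4 ≤ n) (h2 : (2 : F) ≠ 0)
    (hsq : ∀ c : F, c * c ∈ F₀ → c ∈ F₀) (hN : base F₀ n ≤ L) (hA : ¬CaseA F₀ L)
    {h : GL (Fin n) F} (hh : h ∈ L) : RatG F₀ h := by
  classical
  by_contra hbad
  let l₀ : Fin n := ⟨0, by omega⟩
  let j₀ : Fin n := ⟨1, by omega⟩
  have hlj : j₀ ≠ l₀ := by simp [l₀, j₀]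
  set u : Fin n → F := (h : Matrix (Fin n) (Fin n) F) *ᵥ rv F₀ (Pi.single l₀ 1) with hu
  set a : Fin n → F :=
    rv F₀ (Pi.single j₀ 1) ᵥ* ((h⁻¹ : GL (Fin n) F) : Matrix (Fin n) (Fin n) F) with ha
  have hT : InT L u a := inT_conj hh (rat hN _ _ (by simp [hlj.symm]))
  have hno : ∀ ψ : Fin n → F₀, ψ ≠ 0 → rv F₀ ψ ⬝ᵥ u ≠ 0 := fun ψ hψ e =>
    hbad (ratG_of (by omega) hN hA hh (c := Pi.single l₀ 1) (by simp) hψ e)
  have hui : ∀ i, u i ≠ 0 := fun i e => hno (Pi.single i 1) (by simp) (by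
    rw [rv_single, single_dotProduct, one_mul, e])
  obtain ⟨i₀, hi₀⟩ : ∃ i, a i ≠ 0 := by
    refine Function.ne_iff.mp fun e => ?_
    have h1 := congrArg (· ᵥ* (h : Matrix (Fin n) (Fin n) F)) e
    simp only [ha, Matrix.vecMul_vecMul, ← Units.val_mul, inv_mul_cancel, Units.val_one,
      Matrix.vecMul_one] at h1
    change _ = (0 : Fin n → F) ᵥ* _ at h1
    rw [Matrix.zero_vecMul] at h1
    exact rv_ne_zero F₀ (show (Pi.single j₀ 1 : Fin n → F₀) ≠ 0 by simp) h1
  obtain ⟨i, k, hik, hsum⟩ : ∃ i k, i ≠ k ∧ a i * u i + a k * u k ≠ 0 := by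
    have h3 : 1 < ({i₀}ᶜ : Finset (Fin n)).card := by
      rw [Finset.card_compl, Finset.card_singleton, Fintype.card_fin]; omega
    obtain ⟨k₁, hk₁, k₂, hk₂, hk⟩ := Finset.one_lt_card.1 h3
    simp only [Finset.mem_compl, Finset.mem_singleton] at hk₁ hk₂
    by_contra hc
    push Not at hc
    have : 2 * (a i₀ * u i₀) = 0 := by
      linear_combination hc i₀ k₁ (Ne.symm hk₁) + hc i₀ k₂ (Ne.symm hk₂) - hc k₁ k₂ hk
    exact mul_ne_zero h2 (mul_ne_zero hi₀ (hui i₀)) this
  -- the rational involution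
  let d : Fin n → F := fun t => if t = i ∨ t = k then -1 else 1
  have hdd : ∀ t, d t * d t = 1 := fun t => by simp only [d]; split_ifs <;> ring
  have hDD : Matrix.diagonal d * Matrix.diagonal d = 1 := by
    rw [Matrix.diagonal_mul_diagonal, ← Matrix.diagonal_one]
    exact congrArg _ (funext hdd)
  let j : GL (Fin n) F := ⟨Matrix.diagonal d, Matrix.diagonal d, hDD, hDD⟩
  have hjL : j ∈ L := by
    refine hN (Subgroup.mem_inf.mpr ⟨(mem_subfieldSubgroup_one F₀ _).mpr
      ⟨1, one_ne_zero, fun s t => ?_⟩, Units.ext ?_⟩)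
    · rw [one_mul]
      show Matrix.diagonal d s t ∈ F₀
      rw [Matrix.diagonal_apply]
      simp only [d]
      split_ifs
      exacts [F₀.neg_mem F₀.one_mem, F₀.one_mem, F₀.zero_mem]
    · show (Matrix.diagonal d).det = 1
      rw [Matrix.det_diagonal, Finset.prod_ite, Finset.prod_const, Finset.prod_const_one, mul_one]
      have : (Finset.univ.filter fun t => t = i ∨ t = k) = {i, k} := by ext; simp
      rw [this, Finset.card_pair hik]
      ring
  set u' : Fin n → F := fun t => d t * u t with hu'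
  set a' : Fin n → F := fun t => a t * d t with ha'
  have hT' : InT L u' a' := by
    have h1 := inT_conj hjL hT
    rw [show ((j⁻¹ : GL (Fin n) F) : Matrix (Fin n) (Fin n) F) = Matrix.diagonal d from rfl,
      show (j : Matrix (Fin n) (Fin n) F) = Matrix.diagonal d from rfl] at h1
    rwa [show Matrix.diagonal d *ᵥ u = u' from funext fun t => Matrix.mulVec_diagonal _ _ t,
      show a ᵥ* Matrix.diagonal d = a' from funext fun t => Matrix.vecMul_diagonal _ _ t] at h1
  set π : F := a ⬝ᵥ u' with hπ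
  have hau : a ⬝ᵥ u = 0 := hT.choose
  have hπ0 : π ≠ 0 := by
    have e : π = a ⬝ᵥ u - 2 * (a i * u i + a k * u k) := by
      rw [hπ, dotProduct, dotProduct]
      have : ∀ t, a t * u' t = a t * u t - 2 * (if t = i ∨ t = k then a t * u t else 0) := fun t => by
        simp only [hu', d]; split_ifs <;> ring
      simp only [this, Finset.sum_sub_distrib, ← Finset.mul_sum, ← Finset.sum_filter]
      have : (Finset.univ.filter fun t => t = i ∨ t = k) = {i, k} := by ext; simp
      rw [this, Finset.sum_pair hik]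
    rw [e, hau, zero_sub]
    exact neg_ne_zero.mpr (mul_ne_zero h2 hsum)
  have ha'u : a' ⬝ᵥ u = π := by
    rw [hπ, dotProduct, dotProduct]
    exact Finset.sum_congr rfl fun t _ => by simp only [hu', ha']; ring
  let P : Matrix (Fin n) (Fin 2) F := Matrix.of fun t m => ![u t, π⁻¹ * u' t] m
  let R : Matrix (Fin 2) (Fin n) F := Matrix.of ![π⁻¹ • a', a]
  have hRP : R * P = 1 := by
    ext s m
    fin_cases s <;> fin_cases m <;>
      simp [R, P, Matrix.mul_apply, mul_assoc, ← Finset.mul_sum]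
    · rw [show ∑ t, a' t * u t = π from ha'u, inv_mul_cancel₀ hπ0]
    · refine Or.inr ?_
      have e : ∑ t, a' t * (π⁻¹ * u' t) = π⁻¹ * (a' ⬝ᵥ u') := by
        rw [dotProduct, Finset.mul_sum]
        exact Finset.sum_congr rfl fun t _ => by ring
      rw [e, hT'.choose, mul_zero]
    · exact hau
    · have e : ∑ t, a t * (π⁻¹ * u' t) = π⁻¹ * π := by
        rw [hπ, dotProduct, Finset.mul_sum]
        exact Finset.sum_congr rfl fun t _ => by ring
      rw [e, inv_mul_cancel₀ hπ0]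
  have hval : ∀ A : Matrix.SpecialLinearGroup (Fin 2) F, ∀ s t,
      ((embTwo P R hRP A : GL (Fin n) F) : Matrix (Fin n) (Fin n) F) s t =
        (1 : Matrix (Fin n) (Fin n) F) s t +
          (u s * (A 0 0 - 1) + π⁻¹ * u' s * A 1 0) * (π⁻¹ * a' t) +
          (u s * A 0 1 + π⁻¹ * u' s * (A 1 1 - 1)) * a t := fun A s t => by
    simp [coe_embTwo, P, R, Matrix.mul_apply, Fin.sum_univ_two, Matrix.one_apply]
    ring
  set H := L.comap (embTwo P R hRP)
  have hU : tU (1 : F) ∈ H := by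
    obtain ⟨h0, hm⟩ := hT
    show embTwo P R hRP (tU 1) ∈ L
    rw [show embTwo P R hRP (tU 1) = tv u a h0 from Units.ext (Matrix.ext fun s t => by
      rw [hval, coe_tv, tvMat, Matrix.add_apply, Matrix.vecMulVec_apply]
      simp [tU_coe])]
    exact hm
  have hL' : tL (π * π) ∈ H := by
    obtain ⟨h0, hm⟩ := hT'
    show embTwo P R hRP (tL (π * π)) ∈ L
    rw [show embTwo P R hRP (tL (π * π)) = tv u' a' h0 from Units.ext (Matrix.ext fun s t => by
      rw [hval, coe_tv, tvMat, Matrix.add_apply, Matrix.vecMulVec_apply]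
      simp [tL_coe]
      field_simp)]
    exact hm
  obtain ⟨p, hp⟩ := CharP.exists F
  haveI := Fact.mk (CharP.char_is_prime F p)
  have hp2 : p ≠ 2 := by
    rintro rfl
    exact h2 (by exact_mod_cast CharP.cast_eq_zero F 2)
  obtain ⟨g, hg⟩ := exists_SL2_map_le hp2 H hU hL' (i := 1) (j := 1)
    (by rw [pow_one, tU_pow, CharP.cast_eq_zero, zero_mul, tU_zero])
    (by rw [pow_one, tL_pow, CharP.cast_eq_zero, zero_mul, tL_zero])
    (fun e => by
      have := congrArg (fun x : Matrix.SpecialLinearGroup (Fin 2) F => x 0 0) e.eq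
      simp [tU_coe, tL_coe, mul_apply'] at this
      exact hπ0 this)
  have hneg : conjGL g (Matrix.SpecialLinearGroup.map (ZMod.castHom (dvd_refl p) F) (-1)) = -1 := by
    refine Subtype.ext ?_
    rw [conjGL_coe]
    have e : ((Matrix.SpecialLinearGroup.map (ZMod.castHom (dvd_refl p) F) (-1) :
        Matrix.SpecialLinearGroup (Fin 2) F) : Matrix (Fin 2) (Fin 2) F) = -1 := by
      ext s t
      rw [map_apply']
      simp [Matrix.one_apply, apply_ite]
    rw [e, Matrix.SpecialLinearGroup.coe_neg, Matrix.SpecialLinearGroup.coe_one, mul_neg, mul_one,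
      neg_mul, ← Units.val_mul, mul_inv_cancel, Units.val_one]
  set w := embTwo P R hRP (-1) with hwdef
  have hwL : w ∈ L := by
    have h1 := hg (-1)
    rwa [hneg] at h1
  have hW : ∀ s t, (w : Matrix (Fin n) (Fin n) F) s t =
      (1 : Matrix (Fin n) (Fin n) F) s t - 2 * (π⁻¹ * (u s * a t) * (d t + d s)) := fun s t => by
    rw [hwdef, hval]
    simp [hu', ha']
    ring
  have hw2 : w * w = 1 := by
    rw [hwdef, ← map_mul, show (-1 : Matrix.SpecialLinearGroup (Fin 2) F) * -1 = 1 by simp, map_one]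
  obtain ⟨l, hl⟩ : ∃ l, l ∉ ({i, k} : Finset (Fin n)) := by
    obtain ⟨l, -, hl⟩ := Finset.exists_mem_notMem_of_card_lt_card
      (show ({i, k} : Finset (Fin n)).card < (Finset.univ : Finset (Fin n)).card by
        rw [Finset.card_univ, Fintype.card_fin]; exact Finset.card_le_two.trans_lt (by omega))
    exact ⟨l, hl⟩
  simp only [Finset.mem_insert, Finset.mem_singleton, not_or] at hl
  have hwR : RatG F₀ w := ratG_of (by omega) hN hA hwL (c := Pi.single i 1)
    (ψ := Pi.single l 1) (by simp) (by simp) (by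
      rw [rv_single, rv_single, single_dotProduct, one_mul, Matrix.mulVec_single_one,
        Matrix.col_apply, hW, Matrix.one_apply_ne hl.1]
      simp [d, hl.1, hl.2])
  obtain ⟨c, hc, hcr⟩ := hwR
  have hcm : c ∈ F₀ := by
    let A : Matrix (Fin n) (Fin n) F₀ := Matrix.of fun a b => ⟨_, hcr a b⟩
    have hA' : A.map F₀.subtype = c • (w : Matrix (Fin n) (Fin n) F) := rfl
    refine hsq c ?_
    have h1 : ((A * A).map F₀.subtype) l₀ l₀ = c * c := by
      rw [Matrix.map_mul, hA', Matrix.smul_mul, Matrix.mul_smul, smul_smul, ← Units.val_mul, hw2,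
        Units.val_one, Matrix.smul_apply, Matrix.one_apply_eq, smul_eq_mul, mul_one]
    rw [← h1]
    exact ((A * A) _ _).2
  have hwE : ∀ s t, (w : Matrix (Fin n) (Fin n) F) s t ∈ F₀ := fun s t => by
    have := F₀.mul_mem (F₀.inv_mem hcm) (hcr s t)
    rwa [← mul_assoc, inv_mul_cancel₀ hc, one_mul] at this
  let B : Matrix (Fin n) (Fin n) F₀ := Matrix.of (fun a b => (⟨_, hwE a b⟩ : F₀)) - 1
  have hB : B.map F₀.subtype = (w : Matrix (Fin n) (Fin n) F) - 1 := by
    ext a b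
    simp [B, Matrix.one_apply, apply_ite Subtype.val]
  have hmul : ∀ v, ((w : Matrix (Fin n) (Fin n) F) - 1) *ᵥ v =
      (-2 * π⁻¹) • ((a' ⬝ᵥ v) • u + (a ⬝ᵥ v) • u') := fun v => by
    funext s
    rw [Matrix.mulVec, dotProduct]
    simp only [Matrix.sub_apply, hW, Pi.smul_apply, Pi.add_apply, smul_eq_mul, dotProduct,
      Finset.sum_mul, Finset.mul_sum, mul_add, ← Finset.sum_add_distrib]
    exact Finset.sum_congr rfl fun t _ => by simp only [hu', ha']; ring
  have hdet : B.det = 0 := by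
    apply F₀.subtype.injective
    rw [RingHom.map_det, map_zero, RingHom.mapMatrix_apply, hB, ← Matrix.exists_mulVec_eq_zero_iff]
    let f : (Fin n → F) →ₗ[F] (Fin 2 → F) := Matrix.mulVecLin (Matrix.of ![a', a])
    obtain ⟨v, hv, hv0⟩ := Submodule.exists_mem_ne_zero_of_ne_bot
      (LinearMap.ker_ne_bot_of_finrank_lt (f := f) (by simp; omega))
    rw [LinearMap.mem_ker] at hv
    refine ⟨v, hv0, ?_⟩
    rw [hmul, show a' ⬝ᵥ v = 0 from congrFun hv 0, show a ⬝ᵥ v = 0 from congrFun hv 1]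
    simp
  obtain ⟨ψ, hψ, hψ0⟩ := Matrix.exists_vecMul_eq_zero_iff.mpr hdet
  have hψ' : rv F₀ ψ ᵥ* ((w : Matrix (Fin n) (Fin n) F) - 1) = 0 := by
    rw [← hB]
    funext b
    have := congrArg F₀.subtype (congrFun hψ0 b)
    rw [Matrix.vecMul, dotProduct, map_sum] at this
    rw [Matrix.vecMul, dotProduct]
    simpa [rv] using this
  refine hno ψ hψ ?_
  have h1 : rv F₀ ψ ⬝ᵥ (((w : Matrix (Fin n) (Fin n) F) - 1) *ᵥ u) = 0 := by
    rw [Matrix.dotProduct_mulVec, hψ', zero_dotProduct]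
  rw [hmul, ha'u, hau, zero_smul, add_zero, smul_smul, mul_assoc, inv_mul_cancel₀ hπ0, mul_one,
    dotProduct_smul, smul_eq_mul] at h1
  exact (mul_eq_zero.mp h1).resolve_left (neg_ne_zero.mpr h2)

/-- In degree less than `n` the coordinates of a column are dependent over the subfield. -/
theorem ratG_of_finrank_lt [Finite F] (hn : 4 ≤ n) (hN : base F₀ n ≤ L) (hA : ¬CaseA F₀ L)
    (hlt : Module.finrank F₀ F < n) {h : GL (Fin n) F} (hh : h ∈ L) : RatG F₀ h := by
  classical
  let l : Fin n := ⟨0, by omega⟩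
  let u : Fin n → F := (h : Matrix (Fin n) (Fin n) F) *ᵥ rv F₀ (Pi.single l 1)
  obtain ⟨ψ, hψ, i, hi⟩ : ∃ ψ : Fin n → F₀, ∑ i, ψ i • u i = 0 ∧ ∃ i, ψ i ≠ 0 := by
    refine Fintype.not_linearIndependent_iff.mp fun hli => ?_
    have := hli.fintype_card_le_finrank
    rw [Fintype.card_fin] at this
    omega
  refine ratG_of (by omega) hN hA hh (c := Pi.single l 1) (ψ := ψ) (by simp)
    (fun e => hi (congrFun e i)) ?_
  rw [← hψ]
  rfl

/-- For a finite field F, a subfield F₀ with |F| = |F₀| ^ r for a prime r, and n ≥ 4, the subfield group (the conjugate by any P of the product of GL_n(F₀) with the non-zero scalars of F, intersected with SL_n(F)) is a maximal subgroup of SL_n(F). -/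
theorem isMaximalIn_subfield {F : Type*} [Field F] [Fintype F] (n : ℕ) (hn : 4 ≤ n) (F₀ : Subfield F) (r : ℕ) (hr : r.Prime) (hcard : Fintype.card F = Nat.card F₀ ^ r) (P : Matrix.GeneralLinearGroup (Fin n) F) : Cfsg.Geo.IsMaximalIn (Cfsg.Geo.specialLinear (Fin n) F) (Cfsg.Geo.subfieldSubgroup F₀ P ⊓ Cfsg.Geo.specialLinear (Fin n) F) := by
  rw [Fintype.card_eq_nat_card] at hcard
  have hSL : (Cfsg.Geo.specialLinear (Fin n) F).map (MulAut.conj P).toMonoidHom =
      Cfsg.Geo.specialLinear (Fin n) F := by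
    haveI : (Cfsg.Geo.specialLinear (Fin n) F).Normal := MonoidHom.normal_ker _
    exact Subgroup.Normal.map_conj_eq _ P
  have hP : Cfsg.Geo.subfieldSubgroup F₀ P ⊓ Cfsg.Geo.specialLinear (Fin n) F =
      (base F₀ n).map (MulAut.conj P).toMonoidHom := by
    rw [base, Subgroup.map_inf_eq _ _ _ (MulAut.conj P).injective, hSL]
    congr 1
    rw [Cfsg.Geo.subfieldSubgroup, Cfsg.Geo.subfieldSubgroup]
    congr 1
    ext x
    simp
  rw [hP]
  refine maximal_conj P hSL ⟨lt_of_le_of_ne inf_le_right fun e => ?_, fun L hNL hLS => ?_⟩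
  · obtain ⟨x, hx⟩ : ∃ x : F, x ∉ F₀ := by
      by_contra hc
      push Not at hc
      have : Nat.card F₀ = Nat.card F :=
        Nat.card_congr (Equiv.subtypeUnivEquiv hc)
      rw [this] at hcard
      have h1 : 1 < Nat.card F := Finite.one_lt_card
      have := Nat.pow_right_injective h1 (a₁ := 1) (a₂ := r) (by simpa using hcard)
      exact hr.ne_one this.symm
    let a : Fin n := ⟨0, by omega⟩
    let b : Fin n := ⟨1, by omega⟩
    have hab : a ≠ b := by simp [a, b]
    have h0 : (x • (Pi.single b 1 : Fin n → F)) ⬝ᵥ Pi.single a 1 = 0 := by simp [hab]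
    have hm : tv _ _ h0 ∈ base F₀ n := by rw [e]; exact tv_mem_SL _ _ _
    obtain ⟨c, hc, h⟩ := (mem_subfieldSubgroup_one F₀ _).mp hm.1
    have h1 := h a a
    have h2 := h a b
    simp [coe_tv, tvMat, Matrix.vecMulVec_apply, hab, hab.symm] at h1 h2
    apply hx
    have := F₀.mul_mem (F₀.inv_mem h1) h2
    rwa [← mul_assoc, inv_mul_cancel₀ hc, one_mul] at this
  · by_cases hA : CaseA F₀ L
    · exact Or.inr (le_antisymm hLS (caseA_full hr hcard (by omega) hNL hA))
    · refine Or.inl (le_antisymm (fun g hg => ?_) hNL)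
      refine Subgroup.mem_inf.mpr ⟨(mem_subfieldSubgroup_one F₀ g).mpr ?_, hLS hg⟩
      have hfr : Module.finrank F₀ F = r := by
        have h1 := Module.natCard_eq_pow_finrank (K := F₀) (V := F)
        rw [hcard] at h1
        exact (Nat.pow_right_injective Finite.one_lt_card h1).symm
      rcases lt_or_ge r n with hrn | hrn
      · exact ratG_of_finrank_lt hn hNL hA (hfr ▸ hrn) hg
      have hodd : Odd r := hr.odd_of_ne_two (by omega)
      by_cases h2 : (2 : F) = 0
      · exact ratG_all hn h2 (fun c => mem_of_sq_mem hr hfr hodd) hNL hA hg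
      · exact ratG_odd (by omega) h2 (fun c => mem_of_sq_mem hr hfr hodd) hNL hA hg

end Cfsg.Lib.Linear.SLMax.Subf
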