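import Cfsg.Prelude.Def_GeometricClasses
import Cfsg.Agent.Lib.Linear.MonoMax.SLMain
import Cfsg.Agent.Lib.Linear.MonoMax.SLFour
import Cfsg.Agent.Lib.Linear.MonoMax.Blocks

set_option autoImplicit false
open Cfsg

namespace Cfsg.Lib.Linear.SLMax.Dec

open Matrix Module Cfsg.Lib.Linear.MonoMax Cfsg.Lib.Linear.TVec

/-- The change of coordinates given by a basis. -/
noncomputable def change {F : Type*} [Field F] {n : ℕ} {κ : Type} [Fintype κ] [DecidableEq κ]
    (b : Basis κ F (Fin n → F)) : GL (Fin n) F ≃* GL κ F :=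
  Units.mapEquiv ((Matrix.toLinAlgEquiv' (R := F) (n := Fin n)).toMulEquiv.trans
    (LinearMap.toMatrixAlgEquiv b).toMulEquiv)

/-- For a finite field F with q elements and n ≥ 5 (n ≥ 10 or n = 6 if m = 1), or n = 4 (q ≥ 7 if m = 1, q ≥ 4 if m = 2), let D be a decomposition of F^n into t ≥ 2 independent subspaces of equal dimension m ≥ 1 spanning F^n. Unless m = 1 and q ≤ 4, or m = 2 and q = 2, the elements of SL_n(F) permuting the members of D form a maximal subgroup of SL_n(F). -/
theorem isMaximalIn_decomposition {F : Type*} [Field F] [Fintype F] (n : ℕ) (hn : 5 ≤ n ∨ n = 4 ∧ 4 ≤ Fintype.card F) {t : ℕ} (m : ℕ) (hn1 : m = 1 → 10 ≤ n ∨ n = 6 ∨ n = 4 ∧ 7 ≤ Fintype.card F) (D : Fin t → Submodule F (Fin n → F)) (hD : Cfsg.Geo.IsMDecomposition m D) (h1 : ¬ (m = 1 ∧ Fintype.card F ≤ 4)) (h2 : ¬ (m = 2 ∧ Fintype.card F = 2)) : Cfsg.Geo.IsMaximalIn (Cfsg.Geo.specialLinear (Fin n) F) (Cfsg.Geo.decompositionStabilizer D ⊓ Cfsg.Geo.specialLinear (Fin n) F) := by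
  classical
  have hint := DirectSum.isInternal_submodule_of_iSupIndep_of_iSup_eq_top hD.indep hD.iSup_eq_top
  let bi : ∀ a, Basis (Fin m) F (D a) := fun a => Module.finBasisOfFinrankEq F (D a) (hD.finrank_eq a)
  let b : Basis (Fin t × Fin m) F (Fin n → F) :=
    (hint.collectedBasis bi).reindex (Equiv.sigmaEquivProd (Fin t) (Fin m))
  have hb : ∀ a p, b (a, p) = (bi a p : Fin n → F) := by
    intro a p
    simp [b, DirectSum.IsInternal.collectedBasis_coe]
    rfl
  have hcard : t * m = n := by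
    have := Module.finrank_eq_card_basis b
    simpa using this.symm
  have hrepr : ∀ a, ∀ v ∈ D a, ∀ i : Fin t × Fin m, i.1 ≠ a → b.repr v i = 0 := by
    intro a v hv i hi
    have hsum : v = ∑ p, (bi a).repr ⟨v, hv⟩ p • b (a, p) := by
      conv_lhs => rw [show v = ((⟨v, hv⟩ : D a) : Fin n → F) from rfl, ← (bi a).sum_repr ⟨v, hv⟩]
      simp [hb, -Basis.sum_repr]
    rw [hsum, map_sum, Finsupp.finset_sum_apply]
    refine Finset.sum_eq_zero fun p _ => ?_
    rw [map_smul, b.repr_self, Finsupp.smul_apply,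
      Finsupp.single_eq_of_ne (fun e => hi (by rw [e])), smul_zero]
  set Φ := change b with hΦ
  have hΦval : ∀ g : GL (Fin n) F, (Φ g : Matrix (Fin t × Fin m) (Fin t × Fin m) F) =
      LinearMap.toMatrix b b (Matrix.toLin' (g : Matrix (Fin n) (Fin n) F)) := fun g => rfl
  have hdet : ∀ g : GL (Fin n) F,
      Φ g ∈ Cfsg.Geo.specialLinear (Fin t × Fin m) F ↔ g ∈ Cfsg.Geo.specialLinear (Fin n) F := by
    intro g
    simp only [Cfsg.Geo.specialLinear, MonoidHom.mem_ker, Units.ext_iff,
      Matrix.GeneralLinearGroup.val_det_apply, hΦval, LinearMap.det_toMatrix, LinearMap.det_toLin']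
  have hD0 : ∀ a, D a ≠ ⊥ := fun a e => by
    have := hD.finrank_eq a
    rw [e, finrank_bot] at this
    exact hD.pos.ne this
  have hstab : ∀ g : GL (Fin n) F,
      BMono (Φ g : Matrix (Fin t × Fin m) (Fin t × Fin m) F) ↔
        g ∈ Cfsg.Geo.decompositionStabilizer D := by
    intro g
    have hentry : ∀ i j, (Φ g : Matrix (Fin t × Fin m) (Fin t × Fin m) F) i j =
        b.repr ((g : Matrix (Fin n) (Fin n) F) *ᵥ b j) i := fun i j => by
      rw [hΦval, LinearMap.toMatrix_apply, Matrix.toLin'_apply]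
    constructor
    · intro h
      choose σ hσ using h
      have hle : ∀ a, (D a).map (Matrix.toLin' (g : Matrix (Fin n) (Fin n) F)) = D (σ a) := by
        intro a
        have hinj : Function.Injective (Matrix.toLin' (g : Matrix (Fin n) (Fin n) F)) :=
          Function.LeftInverse.injective
            (g := fun v => ((g⁻¹ : GL (Fin n) F) : Matrix (Fin n) (Fin n) F) *ᵥ v) fun v => by
            simp only [Matrix.toLin'_apply, mulVec_mulVec, ← Units.val_mul, inv_mul_cancel,
              Units.val_one, one_mulVec]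
        refine Submodule.eq_of_le_of_finrank_eq ?_ ?_
        · rintro _ ⟨v, hv, rfl⟩
          have hsum : v = ∑ p, (bi a).repr ⟨v, hv⟩ p • b (a, p) := by
            conv_lhs => rw [show v = ((⟨v, hv⟩ : D a) : Fin n → F) from rfl, ← (bi a).sum_repr ⟨v, hv⟩]
            simp [hb, -Basis.sum_repr]
          rw [hsum, map_sum]
          refine Submodule.sum_mem _ fun p _ => ?_
          rw [map_smul]
          refine Submodule.smul_mem _ _ ?_
          rw [Matrix.toLin'_apply, ← b.sum_repr ((g : Matrix (Fin n) (Fin n) F) *ᵥ b (a, p))]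
          refine Submodule.sum_mem _ fun i _ => ?_
          by_cases hi : i.1 = σ a
          · refine Submodule.smul_mem _ _ ?_
            obtain ⟨i1, i2⟩ := i
            simp only at hi; subst hi
            rw [hb]; exact (bi _ i2).2
          · rw [← hentry, hσ a i (a, p) rfl hi, zero_smul]; exact Submodule.zero_mem _
        · rw [← (Submodule.equivMapOfInjective _ hinj (D a)).finrank_eq, hD.finrank_eq,
            hD.finrank_eq]
      have hσinj : Function.Injective σ := by
        intro a a' e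
        have hinj : Function.Injective (Matrix.toLin' (g : Matrix (Fin n) (Fin n) F)) :=
          Function.LeftInverse.injective
            (g := fun v => ((g⁻¹ : GL (Fin n) F) : Matrix (Fin n) (Fin n) F) *ᵥ v) fun v => by
            simp only [Matrix.toLin'_apply, mulVec_mulVec, ← Units.val_mul, inv_mul_cancel,
              Units.val_one, one_mulVec]
        have hDD : D a = D a' := Submodule.map_injective_of_injective hinj
          (by rw [hle, hle, e])
        by_contra hne
        have := hD.indep.pairwiseDisjoint hne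
        rw [Function.onFun, hDD, disjoint_self] at this
        exact hD0 a' this
      exact ⟨Equiv.ofBijective σ (Finite.injective_iff_bijective.1 hσinj), hle⟩
    · rintro ⟨σ, hσ⟩ a
      refine ⟨σ a, fun i ⟨a', p⟩ hj hi => ?_⟩
      simp only at hj
      subst hj
      rw [hentry]
      refine hrepr (σ a') _ ?_ i hi
      rw [← hσ a', hb]
      exact ⟨_, (bi a' p).2, by rw [Matrix.toLin'_apply]⟩
  -- the two cases
  have key : ∀ M : Subgroup (GL (Fin t × Fin m) F), OverB M → ∀ g ∈ M,
      ¬ BMono (g : Matrix (Fin t × Fin m) (Fin t × Fin m) F) →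
      Cfsg.Geo.specialLinear (Fin t × Fin m) F ≤ M := by
    intro M hM g hg hg'
    rcases Nat.lt_or_ge m 2 with hm | hm
    · obtain rfl : m = 1 := by have := hD.pos; omega
      have hq : 5 ≤ Fintype.card F := by
        by_contra hc; exact h1 ⟨rfl, by omega⟩
      have hcard' : (10 ≤ Fintype.card (Fin t × Fin 1) ∨ Fintype.card (Fin t × Fin 1) = 6) ∨
          Fintype.card (Fin t × Fin 1) = 4 ∧ 7 ≤ Fintype.card F := by
        have := hn1 rfl
        simp; omega
      have eq' : ∀ i i' : Fin t × Fin 1, i.1 = i'.1 → i = i' :=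
        fun i i' h => Prod.ext h (Subsingleton.elim _ _)
      have hMo : Over M := ⟨hM.le, fun x hx hmx => hM.mono x hx fun a => by
        obtain ⟨i, hi⟩ := hmx (a, 0)
        exact ⟨i.1, fun k j hj hk => by
          rw [eq' j (a, 0) hj]; exact hi k fun e => hk (by rw [e])⟩⟩
      have hnm : ¬ Mono (g : Matrix (Fin t × Fin 1) (Fin t × Fin 1) F) := fun hm' => hg' fun a => ?_
      · rcases hcard' with hc | ⟨hc4, hq7⟩
        · exact SL_le_of_el hMo (by omega) (el_of_over hMo hq hc hg hnm)
        · exact SL_le_of_el hMo (by omega) (el_of_over_four hMo hq7 hc4 hg hnm)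
      obtain ⟨i, hi⟩ := hm' (a, 0)
      exact ⟨i.1, fun k j hj hk => by
        rw [eq' j (a, 0) hj]; exact hi k fun e => hk (by rw [e])⟩
    · exact SL_le_of_overB hM hm (by omega) h2 (fun e => by subst e; omega) hg hg'
  refine ⟨lt_of_le_of_ne inf_le_right fun e => ?_, fun L hL hLS => ?_⟩
  · obtain ⟨a₁, a₂, hne⟩ : ∃ a₁ a₂ : Fin t, a₁ ≠ a₂ :=
      ⟨⟨0, by have := hD.two_le; omega⟩, ⟨1, by have := hD.two_le; omega⟩, by simp⟩
    let p0 : Fin m := ⟨0, hD.pos⟩
    have hd : (Pi.single (a₂, p0) 1 : Fin t × Fin m → F) ⬝ᵥ Pi.single (a₁, p0) 1 = 0 := by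
      simp [hne]
    set x := Φ.symm (Cfsg.Lib.Linear.tv (Pi.single (a₁, p0) 1) (Pi.single (a₂, p0) 1) hd) with hx
    have hxS : x ∈ Cfsg.Geo.specialLinear (Fin n) F := by
      rw [← hdet, hx, MulEquiv.apply_symm_apply]; exact Cfsg.Lib.Linear.tv_mem_SL _ _ _
    rw [← e] at hxS
    have := (hstab x).2 hxS.1
    rw [hx, MulEquiv.apply_symm_apply] at this
    obtain ⟨a, ha⟩ := this a₂
    by_cases h' : a₁ = a
    · have := ha (a₂, p0) (a₂, p0) rfl (h' ▸ hne.symm)
      simp [Cfsg.Lib.Linear.coe_tv, Cfsg.Lib.Linear.tvMat, vecMulVec_apply, hne.symm] at this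
    · have := ha (a₁, p0) (a₂, p0) rfl h'
      simp [Cfsg.Lib.Linear.coe_tv, Cfsg.Lib.Linear.tvMat, vecMulVec_apply, hne, one_apply] at this
  · by_cases hLN : L ≤ Cfsg.Geo.decompositionStabilizer D
    · exact Or.inl (le_antisymm (le_inf hLN hLS) hL)
    refine Or.inr (le_antisymm hLS ?_)
    obtain ⟨g, hgL, hgD⟩ := SetLike.not_le_iff_exists.1 hLN
    have hM : OverB (L.map Φ.toMonoidHom) := by
      refine ⟨?_, fun x hx hbx => ?_⟩
      · rintro _ ⟨y, hy, rfl⟩
        exact (hdet y).2 (hLS hy)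
      · refine ⟨Φ.symm x, hL ⟨(hstab _).1 ?_, (hdet _).1 ?_⟩, MulEquiv.apply_symm_apply _ _⟩
        · rwa [MulEquiv.apply_symm_apply]
        · rwa [MulEquiv.apply_symm_apply]
    intro y hy
    obtain ⟨z, hz, hzy⟩ := key _ hM (Φ g) ⟨g, hgL, rfl⟩ (fun h => hgD ((hstab g).1 h))
      ((hdet y).2 hy)
    rwa [← Φ.injective hzy]

end Cfsg.Lib.Linear.SLMax.Dec
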