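import Cfsg.Prelude.Def_GeometricClasses
import Cfsg.Agent.Lib.Linear.TransvectionMax
import Cfsg.Agent.Lib.Linear.SingularVectors
import Mathlib.LinearAlgebra.Matrix.SchurComplement

/-!
# Similarity groups of quadratic forms are maximal in `SL`

For odd `q` and `n ≥ 6` (`n = 4` is in `QuadraticFour`). Two forms `Q` and `Q ∘ g` have a common singular vector `x`; Eichler
elements of the two forms at `x` have a transvection as commutator, and the Eichler elements of
`Q` spread one transvection to all of them.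
-/

set_option autoImplicit false
open Cfsg

namespace Cfsg.Lib.Linear.SLMax.Quad

open scoped Matrix
open Cfsg.Lib.Linear Cfsg.Lib.Linear.TVec Module

variable {F : Type*} [Field F] {n : ℕ}
  {Q : (Fin n → F) → F} {B : LinearMap.BilinForm F (Fin n → F)}

/-- The covector of `s`. -/
def avec (B : LinearMap.BilinForm F (Fin n → F)) (s : Fin n → F) : Fin n → F :=
  fun i => B s (Pi.single i 1)

theorem avec_dot (s v : Fin n → F) : avec B s ⬝ᵥ v = B s v := by
  conv_rhs => rw [pi_eq_sum_univ' v]
  simp [dotProduct, avec, mul_comm]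

theorem avec_add (s t : Fin n → F) : avec B (s + t) = avec B s + avec B t := by
  funext i; simp [avec]

theorem avec_smul (c : F) (s : Fin n → F) : avec B (c • s) = c • avec B s := by
  funext i; simp [avec]

theorem avec_neg (s : Fin n → F) : avec B (-s) = -avec B s := by
  funext i; simp [avec]

/-- The hypotheses in use. -/
structure Ctx (Q : (Fin n → F) → F) (B : LinearMap.BilinForm F (Fin n → F)) : Prop where
  smul : ∀ (c : F) v, Q (c • v) = c ^ 2 * Q v
  polar : ∀ u v, QuadraticMap.polar Q u v = B u v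
  nondeg : ∀ v, (∀ u, B u v = 0) → v = 0
  two : (2 : F) ≠ 0
  dim : 4 ≤ n

theorem Ctx.symm (C : Ctx Q B) (u v : Fin n → F) : B u v = B v u := Sing.isSymm C.polar u v

theorem Ctx.self (C : Ctx Q B) (v : Fin n → F) : B v v = 2 * Q v :=
  Sing.apply_self C.smul C.polar v

theorem Ctx.add (C : Ctx Q B) (u v : Fin n → F) : Q (u + v) = Q u + Q v + B u v :=
  Sing.apply_add C.polar u v

theorem Ctx.avec_inj (C : Ctx Q B) : Function.Injective (avec B) := fun s t h => by
  rw [← sub_eq_zero]
  refine C.nondeg _ fun u => ?_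
  rw [C.symm, map_sub, LinearMap.sub_apply, ← avec_dot, ← avec_dot, h, sub_self]

theorem Ctx.avec_surj (C : Ctx Q B) (a : Fin n → F) : ∃ s, avec B s = a := by
  let Φ : (Fin n → F) →ₗ[F] (Fin n → F) :=
    { toFun := avec B, map_add' := avec_add, map_smul' := avec_smul }
  exact LinearMap.surjective_of_injective (f := Φ) C.avec_inj a

/-- The vectors perpendicular to a family. -/
def perp {k : ℕ} (B : LinearMap.BilinForm F (Fin n → F)) (s : Fin k → Fin n → F) :
    Submodule F (Fin n → F) := LinearMap.ker (LinearMap.pi fun i => B (s i))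

theorem mem_perp {k : ℕ} {s : Fin k → Fin n → F} {v : Fin n → F} :
    v ∈ perp B s ↔ ∀ i, B (s i) v = 0 :=
  ⟨fun h i => congrFun (LinearMap.mem_ker.mp h) i, fun h => LinearMap.mem_ker.mpr (funext h)⟩

theorem finrank_perp {k : ℕ} (s : Fin k → Fin n → F) : n ≤ finrank F (perp B s) + k := by
  have h1 := LinearMap.finrank_range_add_finrank_ker (LinearMap.pi fun i => B (s i))
  have h2 := Submodule.finrank_le (LinearMap.range (LinearMap.pi fun i => B (s i)))
  rw [finrank_fin_fun] at h1 h2
  show n ≤ finrank F (LinearMap.ker (LinearMap.pi fun i => B (s i))) + k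
  omega

/-- A vector perpendicular to a family and not to a vector outside its span. -/
theorem Ctx.exists_pair (C : Ctx Q B) {k : ℕ} (s : Fin k → Fin n → F)
    {x : Fin n → F} (hx : x ∉ Submodule.span F (Set.range s)) :
    ∃ v, (∀ i, B (s i) v = 0) ∧ B x v = 1 := by
  obtain ⟨φ, hφx, hφ⟩ := Submodule.exists_dual_map_eq_bot_of_notMem hx inferInstance
  obtain ⟨v, hv⟩ := C.avec_surj (fun i => φ (Pi.single i 1))
  have hvφ : ∀ w, B v w = φ w := fun w => by
    rw [← avec_dot, hv]
    conv_rhs => rw [pi_eq_sum_univ' w]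
    simp [dotProduct, mul_comm]
  refine ⟨(φ x)⁻¹ • v, fun i => ?_, ?_⟩
  · rw [map_smul, C.symm, hvφ]
    have : φ (s i) ∈ (Submodule.span F (Set.range s)).map φ :=
      ⟨s i, Submodule.subset_span ⟨i, rfl⟩, rfl⟩
    rw [hφ, Submodule.mem_bot] at this
    rw [this, smul_zero]
  · rw [map_smul, C.symm, hvφ, smul_eq_mul, inv_mul_cancel₀ hφx]

/-- A perpendicular space of more than half the dimension has a non-singular vector. -/
theorem Ctx.exists_nonsingular (C : Ctx Q B) {k : ℕ} (s : Fin k → Fin n → F) (hk : 2 * k < n) :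
    ∃ y, (∀ i, B (s i) y = 0) ∧ Q y ≠ 0 := by
  by_contra hne
  push Not at hne
  have hU : ∀ a ∈ perp B s, ∀ b ∈ perp B s, B a b = 0 := by
    intro a ha b hb
    have h := hne (a + b) (mem_perp.mp ((perp B s).add_mem ha hb))
    rwa [C.add, hne a (mem_perp.mp ha), hne b (mem_perp.mp hb), zero_add, zero_add] at h
  let Φ : perp B s →ₗ[F] Module.Dual F (Fin n → F) := B.domRestrict (perp B s)
  have hinj : Function.Injective Φ := by
    rw [injective_iff_map_eq_zero]
    intro u hu
    refine Subtype.ext (C.nondeg u fun x => ?_)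
    rw [C.symm]
    exact LinearMap.congr_fun hu x
  have hle : LinearMap.range Φ ≤ (perp B s).dualAnnihilator := by
    rintro _ ⟨u, rfl⟩
    rw [Submodule.mem_dualAnnihilator]
    exact fun x hx => hU u u.2 x hx
  have h1 := Submodule.finrank_mono hle
  rw [LinearMap.finrank_range_of_inj hinj] at h1
  have h2 := Subspace.finrank_add_finrank_dualAnnihilator_eq (perp B s)
  rw [finrank_fin_fun] at h2
  have := finrank_perp (B := B) s
  omega

/-- The perpendicular space of a pair which is not totally singular has a non-singular vector. -/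
theorem Ctx.exists_nonsingular_two (C : Ctx Q B) (s : Fin 2 → Fin n → F)
    (h : 5 ≤ n ∨ ∃ i j, B (s i) (s j) ≠ 0) : ∃ y, (∀ i, B (s i) y = 0) ∧ Q y ≠ 0 := by
  rcases Nat.lt_or_ge n 5 with h4 | h5
  swap
  · exact C.exists_nonsingular s (by omega)
  obtain ⟨i, j, hij⟩ := h.resolve_left (by omega)
  by_contra hne
  push Not at hne
  have hU : ∀ a ∈ perp B s, ∀ b ∈ perp B s, B a b = 0 := by
    intro a ha b hb
    have h := hne (a + b) (mem_perp.mp ((perp B s).add_mem ha hb))
    rwa [C.add, hne a (mem_perp.mp ha), hne b (mem_perp.mp hb), zero_add, zero_add] at h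
  let Φ : perp B s →ₗ[F] Module.Dual F (Fin n → F) := B.domRestrict (perp B s)
  have hinj : Function.Injective Φ := by
    rw [injective_iff_map_eq_zero]
    intro u hu
    refine Subtype.ext (C.nondeg u fun x => ?_)
    rw [C.symm]
    exact LinearMap.congr_fun hu x
  have hle : LinearMap.range Φ ≤ (perp B s).dualAnnihilator := by
    rintro _ ⟨u, rfl⟩
    rw [Submodule.mem_dualAnnihilator]
    exact fun x hx => hU u u.2 x hx
  have heq : LinearMap.range Φ = (perp B s).dualAnnihilator := by
    refine Submodule.eq_of_le_of_finrank_le hle ?_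
    have h2 := Subspace.finrank_add_finrank_dualAnnihilator_eq (perp B s)
    rw [finrank_fin_fun] at h2
    rw [LinearMap.finrank_range_of_inj hinj]
    have := finrank_perp (B := B) s
    have := C.dim
    omega
  have hmem : ∀ i, s i ∈ perp B s := by
    intro i
    obtain ⟨u, hu⟩ : B (s i) ∈ LinearMap.range Φ := by
      rw [heq, Submodule.mem_dualAnnihilator]
      exact fun x hx => mem_perp.mp hx i
    have e : (u : Fin n → F) = s i := by
      rw [← sub_eq_zero]
      refine C.nondeg _ fun x => ?_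
      rw [C.symm, map_sub, LinearMap.sub_apply, sub_eq_zero]
      exact LinearMap.congr_fun hu x
    rw [← e]; exact u.2
  exact hij (hU _ (hmem i) _ (hmem j))

/-- A singular vector perpendicular to one vector and not to a vector independent of it. -/
theorem Ctx.exists_sing_pair [Finite F] (C : Ctx Q B) (r : Fin n → F)
    (hr : 6 ≤ n ∨ r = 0 ∨ Q r ≠ 0) {x : Fin n → F}
    (hx : x ∉ Submodule.span F {r}) : ∃ q, Q q = 0 ∧ B r q = 0 ∧ B x q ≠ 0 := by
  obtain ⟨v, hv, hxv⟩ := C.exists_pair ![r] (x := x) (by simpa using hx)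
  obtain ⟨p, hp, hp0, hQp, hpr⟩ : ∃ p ∈ perp B ![r], p ≠ 0 ∧ Q p = 0 ∧
      p ∉ Submodule.span F {r} := by
    have h1 := finrank_perp (B := B) ![r]
    have := C.dim
    rcases hr with h6 | hr
    · obtain ⟨W, hW⟩ := Submodule.exists_isCompl (Submodule.span F {r})
      have h2 := Submodule.finrank_add_eq_of_isCompl hW
      have h3 := Submodule.finrank_sup_add_finrank_inf_eq (perp B ![r]) W
      have h4 := Submodule.finrank_le (perp B ![r] ⊔ W)
      have h5 : finrank F (Submodule.span F {r}) ≤ 1 := by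
        rcases eq_or_ne r 0 with rfl | h0
        · rw [Submodule.span_zero_singleton, finrank_bot]; omega
        · exact (finrank_span_singleton h0).le
      rw [finrank_fin_fun] at h2 h4
      obtain ⟨p, ⟨hp, hpW⟩, hp0, hQp⟩ :=
        Sing.exists_singular C.smul C.polar (perp B ![r] ⊓ W) (by omega)
      exact ⟨p, hp, hp0, hQp, fun h => hp0 (Submodule.disjoint_def.mp hW.disjoint p h hpW)⟩
    · obtain ⟨p, hp, hp0, hQp⟩ := Sing.exists_singular C.smul C.polar (perp B ![r]) (by omega)
      refine ⟨p, hp, hp0, hQp, fun h => ?_⟩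
      obtain ⟨a, rfl⟩ := Submodule.mem_span_singleton.mp h
      rw [C.smul, mul_eq_zero] at hQp
      rcases hr with rfl | hr
      · exact hp0 (smul_zero a)
      · exact hp0 (by rw [pow_eq_zero_iff two_ne_zero |>.mp (hQp.resolve_right hr), zero_smul])
  have hrp : B r p = 0 := mem_perp.mp hp 0
  by_cases hxp : B x p = 0
  swap
  · exact ⟨p, hQp, hrp, hxp⟩
  obtain ⟨y, hy, hpy⟩ := C.exists_pair ![r] (x := p) (by simpa using hpr)
  have hry : B r y = 0 := hy 0
  have hrv : B r v = 0 := hv 0
  obtain ⟨z, hrz, hpz, hxz⟩ : ∃ z, B r z = 0 ∧ B p z ≠ 0 ∧ B x z ≠ 0 := by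
    by_cases h1 : B p v = 0
    swap
    · exact ⟨v, hrv, h1, by rw [hxv]; exact one_ne_zero⟩
    by_cases h2 : B x y = 0
    · exact ⟨v + y, by rw [map_add, hrv, hry, add_zero],
        by rw [map_add, h1, hpy, zero_add]; exact one_ne_zero,
        by rw [map_add, hxv, h2, add_zero]; exact one_ne_zero⟩
    · exact ⟨y, hry, by rw [hpy]; exact one_ne_zero, h2⟩
  refine ⟨z + (-(Q z / B p z)) • p, ?_, ?_, ?_⟩
  · rw [C.add, C.smul, hQp, map_smul, C.symm z p, smul_eq_mul]
    field_simp
    ring
  · rw [map_add, map_smul, hrz, hrp, smul_zero, add_zero]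
  · rwa [map_add, map_smul, hxp, smul_zero, add_zero]

/-- The Eichler map of a singular `p` and `w ⊥ p`. -/
def eich (Q : (Fin n → F) → F) (B : LinearMap.BilinForm F (Fin n → F)) (p w : Fin n → F) :
    Matrix (Fin n) (Fin n) F :=
  1 + Matrix.vecMulVec p (avec B w - Q w • avec B p) - Matrix.vecMulVec w (avec B p)

theorem eich_mulVec (p w v : Fin n → F) :
    eich Q B p w *ᵥ v = v + (B w v - Q w * B p v) • p - B p v • w := by
  funext i
  simp [eich, Matrix.add_mulVec, Matrix.sub_mulVec, Matrix.vecMulVec_mulVec, sub_dotProduct,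
    smul_dotProduct, avec_dot, mul_comm]

theorem Ctx.eich_Q (C : Ctx Q B) {p w : Fin n → F} (hp : Q p = 0) (hpw : B p w = 0)
    (v : Fin n → F) : Q (eich Q B p w *ᵥ v) = Q v := by
  rw [eich_mulVec, add_sub_assoc, sub_eq_add_neg ((B w v - Q w * B p v) • p), ← neg_smul, C.add,
    Sing.apply_smul_add C.smul C.polar, hp, hpw, map_add, map_smul, map_smul, C.symm v p,
    C.symm v w, smul_eq_mul, smul_eq_mul]
  ring

theorem isom_of_Q (C : Ctx Q B) {M : Matrix (Fin n) (Fin n) F} (h : ∀ v, Q (M *ᵥ v) = Q v)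
    (a b : Fin n → F) : B (M *ᵥ a) (M *ᵥ b) = B a b := by
  rw [← C.polar, ← C.polar, QuadraticMap.polar, QuadraticMap.polar, ← Matrix.mulVec_add, h, h, h]

/-- Eichler maps lie in the group. -/
theorem eich_mem (C : Ctx Q B) {p w : Fin n → F} (hp : Q p = 0) (hpw : B p w = 0) :
    ∃ g ∈ Cfsg.Geo.quadSimilarityGroup Q ⊓ Cfsg.Geo.specialLinear (Fin n) F,
      (g : Matrix (Fin n) (Fin n) F) = eich Q B p w := by
  let U : Matrix (Fin n) (Fin 2) F := Matrix.of fun i j => ![p i, w i] j
  let V : Matrix (Fin 2) (Fin n) F := Matrix.of ![avec B w - Q w • avec B p, -avec B p]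
  have e : eich Q B p w = 1 + U * V := by
    ext i j
    simp [eich, U, V, Matrix.vecMulVec_apply, Matrix.mul_apply, Fin.sum_univ_two]
    ring
  have hrow : ∀ v z : Fin n → F, ∑ i, avec B v i * z i = B v z := avec_dot
  have hdet : (eich Q B p w).det = 1 := by
    rw [e, Matrix.det_one_add_mul_comm, Matrix.det_fin_two]
    have hpp : B p p = 0 := by rw [C.self, hp, mul_zero]
    have hwp : B w p = 0 := by rw [C.symm, hpw]
    have hV : ∀ i j, (V * U) i j = B (![w - Q w • p, -p] i) (![p, w] j) := by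
      intro i j
      have h1 : V i = avec B (![w - Q w • p, -p] i) := by
        fin_cases i <;> funext k <;> simp [V, avec]
      have h2 : (fun k => U k j) = ![p, w] j := by fin_cases j <;> funext k <;> simp [U]
      rw [Matrix.mul_apply', h1, h2, avec_dot]
    simp [Matrix.one_apply, Matrix.add_apply, hV, hpp, hpw, hwp]
  refine ⟨Matrix.GeneralLinearGroup.mkOfDetNeZero (eich Q B p w) (by rw [hdet]; exact one_ne_zero),
    Subgroup.mem_inf.mpr ⟨⟨1, fun v => ?_⟩, Units.ext hdet⟩, rfl⟩
  show Q (eich Q B p w *ᵥ v) = _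
  rw [C.eich_Q hp hpw, Units.val_one, one_mul]

theorem avec_vecMul_inv (C : Ctx Q B) {g : GL (Fin n) F}
    (h : ∀ v, Q ((g : Matrix (Fin n) (Fin n) F) *ᵥ v) = Q v) (s : Fin n → F) :
    avec B s ᵥ* ((g⁻¹ : GL (Fin n) F) : Matrix (Fin n) (Fin n) F) =
      avec B ((g : Matrix (Fin n) (Fin n) F) *ᵥ s) := by
  funext i
  have e : (Pi.single i 1 : Fin n → F) = (g : Matrix (Fin n) (Fin n) F) *ᵥ
      (((g⁻¹ : GL (Fin n) F) : Matrix (Fin n) (Fin n) F) *ᵥ Pi.single i 1) := by
    rw [Matrix.mulVec_mulVec, ← Units.val_mul, mul_inv_cancel, Units.val_one, Matrix.one_mulVec]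
  conv_rhs => rw [avec, e, isom_of_Q C h, ← avec_dot, Matrix.dotProduct_mulVec,
    dotProduct_single, mul_one]

variable {L : Subgroup (GL (Fin n) F)}

/-- The Eichler maps of `Q` are in `L`. -/
def HasEich (Q : (Fin n → F) → F) (B : LinearMap.BilinForm F (Fin n → F))
    (L : Subgroup (GL (Fin n) F)) : Prop :=
  ∀ p w, Q p = 0 → B p w = 0 → ∃ g ∈ L, (g : Matrix (Fin n) (Fin n) F) = eich Q B p w

theorem inT_eich (C : Ctx Q B) (hS : HasEich Q B L) {u s p w : Fin n → F}
    (h : InT L u (avec B s)) (hp : Q p = 0) (hpw : B p w = 0) :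
    InT L (eich Q B p w *ᵥ u) (avec B (eich Q B p w *ᵥ s)) := by
  obtain ⟨g, hg, hge⟩ := hS p w hp hpw
  have h1 := inT_conj hg h
  rwa [avec_vecMul_inv C (fun v => by rw [hge]; exact C.eich_Q hp hpw v), hge] at h1

/-- An additive family invariant under the Eichler maps fixing `r` contains the whole of `r⊥` as
soon as it has one vector of it outside the line of `r`. -/
theorem spread [Finite F] (C : Ctx Q B) {r : Fin n → F} (P : (Fin n → F) → Prop)
    (hr : 6 ≤ n ∨ Q r ≠ 0)
    (hadd : ∀ a b, P a → P b → P (a + b)) (hneg : ∀ a, P a → P (-a))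
    (horb : ∀ p w z, Q p = 0 → B p w = 0 → B p r = 0 → B w r = 0 → P z →
      P (eich Q B p w *ᵥ z))
    {u : Fin n → F} (hu : P u) (hur : B u r = 0) (hu' : u ∉ Submodule.span F {r})
    (z : Fin n → F) (hz : B z r = 0) (c : F) : P (c • z) := by
  have hP0 : P 0 := by simpa using hadd u (-u) hu (hneg u hu)
  let T : Submodule F (Fin n → F) :=
    { carrier := {z | ∀ c : F, P (c • z)}
      add_mem' := fun ha hb c => by rw [smul_add]; exact hadd _ _ (ha c) (hb c)
      zero_mem' := fun c => by rw [smul_zero]; exact hP0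
      smul_mem' := fun d x hx c => by rw [smul_smul]; exact hx _ }
  suffices z ∈ T from this c
  have h2 := C.two
  have := C.dim
  have hne : ∀ p : Fin n → F, 5 ≤ n ∨ ∃ i j : Fin 2, B (![p, r] i) (![p, r] j) ≠ 0 := fun p => by
    rcases hr with h | h
    · exact Or.inl (by omega)
    · exact Or.inr ⟨1, 1, show B r r ≠ 0 by rw [C.self]; exact mul_ne_zero h2 h⟩
  have hr' : 6 ≤ n ∨ r = 0 ∨ Q r ≠ 0 := hr.imp id Or.inr
  have key : ∀ p, Q p = 0 → B p r = 0 → B p u ≠ 0 →
      p ∈ T ∧ ∀ w, B p w = 0 → B w r = 0 → w ∈ T := by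
    intro p hp hpr hβ
    have hD : ∀ (w : Fin n → F) (t : F), B p w = 0 → B w r = 0 →
        P ((t * B w u - t ^ 2 * Q w * B p u) • p - (t * B p u) • w) := by
      intro w t hpw hwr
      have h := hadd _ _ (horb p (t • w) u hp (by rw [map_smul, hpw, smul_zero]) hpr
        (by rw [map_smul, LinearMap.smul_apply, hwr, smul_zero]) hu) (hneg u hu)
      rw [eich_mulVec, C.smul, map_smul, LinearMap.smul_apply, smul_eq_mul, smul_smul] at h
      convert h using 1
      rw [mul_comm t (B p u)]
      abel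
    obtain ⟨w₀, hw₀, hQw₀⟩ := C.exists_nonsingular_two ![p, r] (hne p)
    have hpT : p ∈ T := by
      intro c
      have hp2 : ∀ t : F, P ((-2 * t ^ 2 * Q w₀ * B p u) • p) := by
        intro t
        have h := hadd _ _ (hD w₀ t (hw₀ 0) ((C.symm _ _).trans (hw₀ 1)))
          (hD w₀ (-t) (hw₀ 0) ((C.symm _ _).trans (hw₀ 1)))
        convert h using 1
        module
      have hb : -2 * Q w₀ * B p u ≠ 0 := mul_ne_zero (mul_ne_zero (neg_ne_zero.mpr h2) hQw₀) hβ
      have h := hadd _ _ (hp2 ((c / (-2 * Q w₀ * B p u) + 1) / 2))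
        (hneg _ (hp2 ((c / (-2 * Q w₀ * B p u) - 1) / 2)))
      convert h using 1
      rw [← sub_eq_add_neg, ← sub_smul]
      congr 1
      field_simp
      ring
    refine ⟨hpT, fun w hpw hwr => ?_⟩
    have hL : B w u • p - B p u • w ∈ T := by
      intro c
      have h := hadd _ _ (hD w (c / 2) hpw hwr) (hneg _ (hD w (-(c / 2)) hpw hwr))
      convert h using 1
      match_scalars <;> field_simp <;> ring
    have h := T.smul_mem (B p u)⁻¹ (T.sub_mem (T.smul_mem (B w u) hpT) hL)
    rwa [sub_sub_cancel, smul_smul, inv_mul_cancel₀ hβ, one_smul] at h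
  obtain ⟨p, hp, hrp, hup⟩ := C.exists_sing_pair r hr' hu'
  have hpr : B p r = 0 := by rw [C.symm, hrp]
  have hpu : B p u ≠ 0 := by rwa [C.symm]
  have hp' : p ∉ Submodule.span F {r} := by
    intro h
    obtain ⟨a, rfl⟩ := Submodule.mem_span_singleton.mp h
    exact hpu (by rw [map_smul, LinearMap.smul_apply, C.symm, hur, smul_zero])
  obtain ⟨v, hv, hrv, hpv⟩ := C.exists_sing_pair r hr' hp'
  have hvr : B v r = 0 := by rw [C.symm, hrv]
  obtain ⟨y, hy, hpy, hyr⟩ : ∃ y ∈ T, B p y ≠ 0 ∧ B y r = 0 := by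
    by_cases huv : B v u = 0
    swap
    · exact ⟨v, (key v hv hvr huv).1, hpv, hvr⟩
    obtain ⟨a, ha, hQa⟩ := C.exists_nonsingular_two ![p, r] (hne p)
    have hpp : B p p = 0 := by rw [C.self, hp, mul_zero]
    let f : (Fin n → F) → (Fin n → F) := fun a => v + a + (-((Q a + B v a) / B p v)) • p
    have hf : ∀ a, B p a = 0 → B a r = 0 →
        Q (f a) = 0 ∧ B p (f a) ≠ 0 ∧ B (f a) r = 0 := by
      intro a hpa har
      refine ⟨?_, ?_, ?_⟩
      · simp only [f, C.add, C.smul, hp, hv, map_add, map_smul, LinearMap.add_apply, C.symm v p,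
          C.symm a p, hpa, smul_eq_mul]
        field_simp
        ring
      · simp only [f, map_add, map_smul, hpa, hpp, smul_zero, add_zero]
        exact hpv
      · simp only [f, map_add, map_smul, LinearMap.add_apply, LinearMap.smul_apply, har, hvr, hpr,
          smul_zero, add_zero]
    have ha0 : B p a = 0 := ha 0
    have ha1 : B a r = 0 := (C.symm _ _).trans (ha 1)
    have hna0 : B p (-a) = 0 := by rw [map_neg, ha0, neg_zero]
    have hna1 : B (-a) r = 0 := by rw [map_neg, LinearMap.neg_apply, ha1, neg_zero]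
    obtain ⟨b, hb0, hb1, hbu⟩ : ∃ b, B p b = 0 ∧ B b r = 0 ∧ B (f b) u ≠ 0 := by
      by_contra hc
      push Not at hc
      have e1 := hc a ha0 ha1
      have e2 := hc (-a) hna0 hna1
      have hQn : Q (-a) = Q a := by rw [← neg_one_smul F a, C.smul]; ring
      simp only [f, hQn, map_add, map_smul, map_neg, LinearMap.add_apply, LinearMap.smul_apply,
        LinearMap.neg_apply, huv, smul_eq_mul] at e1 e2
      have e3 : 2 * Q a * B p u = 0 := by
        field_simp at e1 e2
        linear_combination -e1 - e2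
      exact mul_ne_zero (mul_ne_zero h2 hQa) hpu e3
    obtain ⟨hQf, hpf, hfr⟩ := hf b hb0 hb1
    exact ⟨f b, (key (f b) hQf hfr hbu).1, hpf, hfr⟩
  have h1 : z - (B p z / B p y) • y ∈ T :=
    (key p hp hpr hpu).2 _ (by rw [map_sub, map_smul, smul_eq_mul, div_mul_cancel₀ _ hpy, sub_self])
      (by rw [map_sub, map_smul, LinearMap.sub_apply, LinearMap.smul_apply, hz, hyr, smul_zero,
        sub_zero])
  have h := T.add_mem h1 (T.smul_mem (B p z / B p y) hy)
  rwa [sub_add_cancel] at h

/-- All centres for one axis. -/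
theorem centres [Finite F] (C : Ctx Q B) (hS : HasEich Q B L) {u s : Fin n → F}
    (hs : 6 ≤ n ∨ Q s ≠ 0)
    (h : InT L u (avec B s)) (hu : u ∉ Submodule.span F {s}) (z : Fin n → F) (hz : B z s = 0) :
    InT L z (avec B s) := by
  have hus : B u s = 0 := by rw [C.symm, ← avec_dot]; exact h.choose
  rw [← one_smul F z]
  refine spread C (fun z => InT L z (avec B s)) hs (fun _ _ => inT_add_left) (fun a ha => ?_)
    (fun p w z hp hpw hps hws hz => ?_) h hus hu z hz 1
  · rw [← neg_one_smul F a]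
    exact inT_smul_left (by rw [neg_one_smul]; exact inT_neg ha)
  · have h1 := inT_eich C hS hz hp hpw
    rwa [eich_mulVec p w s, hps, hws, mul_zero, sub_zero, zero_smul, zero_smul, add_zero,
      sub_zero] at h1

/-- All axes for one centre. -/
theorem full_centre [Finite F] (C : Ctx Q B) (hS : HasEich Q B L) {u s : Fin n → F}
    (hu : 6 ≤ n ∨ Q u ≠ 0)
    (h : InT L u (avec B s)) (hs : s ∉ Submodule.span F {u}) : Full L u := by
  intro a ha
  obtain ⟨z, rfl⟩ := C.avec_surj a
  rw [avec_dot] at ha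
  have hsu : B s u = 0 := by rw [← avec_dot]; exact h.choose
  rw [← one_smul F z]
  refine spread C (fun z => InT L u (avec B z)) hu
    (fun a b ha hb => by rw [avec_add]; exact inT_add_right ha hb)
    (fun a ha => by rw [avec_neg]; exact inT_neg ha)
    (fun p w z hp hpw hpu hwu hz => ?_) h hsu hs z ha 1
  have h1 := inT_eich C hS hz hp hpw
  rwa [eich_mulVec p w u, hpu, hwu, mul_zero, sub_zero, zero_smul, zero_smul, add_zero,
    sub_zero] at h1

/-- One transvection outside the similarity group gives all of them. -/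
theorem full_of_one [Finite F] (C : Ctx Q B) (h6 : 6 ≤ n) (hS : HasEich Q B L) {u s : Fin n → F}
    (h : InT L u (avec B s)) (hu0 : u ≠ 0) (hsu : s ∉ Submodule.span F {u}) (z : Fin n → F) :
    Full L z := by
  rcases eq_or_ne z 0 with rfl | hz0
  · exact full_zero
  have hu := full_centre C hS (Or.inl h6) h hsu
  have hW : finrank F (Submodule.span F (Set.range ![u, z])) ≤ 2 :=
    (finrank_range_le_card (R := F) _).trans (Fintype.card_fin 2).le
  obtain ⟨t, ht, htW⟩ : ∃ t ∈ perp B ![u, z], t ∉ Submodule.span F (Set.range ![u, z]) := by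
    refine SetLike.not_le_iff_exists.mp fun hle => ?_
    have := Submodule.finrank_mono hle
    have := finrank_perp (B := B) ![u, z]
    have := C.dim
    omega
  have hout : ∀ i, ![u, z] i ≠ 0 → ![u, z] i ∉ Submodule.span F {t} := by
    intro i hi h
    obtain ⟨a, ha⟩ := Submodule.mem_span_singleton.mp h
    have ha0 : a ≠ 0 := fun e => hi (by rw [← ha, e, zero_smul])
    refine htW ?_
    rw [show t = a⁻¹ • ![u, z] i by rw [← ha, smul_smul, inv_mul_cancel₀ ha0, one_smul]]
    exact Submodule.smul_mem _ _ (Submodule.subset_span ⟨i, rfl⟩)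
  have hut : InT L u (avec B t) :=
    hu _ (by rw [avec_dot, C.symm]; exact mem_perp.mp ht 0)
  refine full_centre C hS (Or.inl h6) (centres C hS (Or.inl h6) hut (hout 0 hu0) z (mem_perp.mp ht 1)) fun h => htW ?_
  obtain ⟨a, ha⟩ := Submodule.mem_span_singleton.mp h
  exact ha ▸ Submodule.smul_mem _ _ (Submodule.subset_span ⟨1, rfl⟩)

/-- A symmetric transvection at a singular vector gives an asymmetric one. -/
theorem exists_of_sym [Finite F] (C : Ctx Q B) (hS : HasEich Q B L) {x : Fin n → F} {c : F}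
    (hc : c ≠ 0) (hx0 : x ≠ 0) (hx : Q x = 0) (h : InT L x (avec B (c • x))) :
    ∃ u s, InT L u (avec B s) ∧ u ≠ 0 ∧ s ∉ Submodule.span F {u} := by
  have hxx : B x x = 0 := by rw [C.self, hx, mul_zero]
  obtain ⟨p, hp, -, hxp⟩ := C.exists_sing_pair (0 : Fin n → F) (Or.inr (Or.inl rfl)) (x := x) (by simpa using hx0)
  obtain ⟨w, hw, hQw⟩ := C.exists_nonsingular ![p] (by have := C.dim; omega)
  have hpw : B p w = 0 := hw 0
  set z := eich Q B p w *ᵥ x with hz
  have hbz : B x z ≠ 0 := by
    rw [hz, eich_mulVec, map_sub, map_add, map_smul, map_smul, hxx, C.symm x w, C.symm p x,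
      smul_eq_mul, smul_eq_mul]
    rw [show 0 + (B w x - Q w * B x p) * B x p - B x p * B w x = -(Q w * (B x p * B x p)) by ring]
    exact neg_ne_zero.mpr (mul_ne_zero hQw (mul_ne_zero hxp hxp))
  have hzz : B z z = 0 := by rw [C.self, hz, C.eich_Q hp hpw, hx, mul_zero]
  have hTz : InT L z (avec B (c • z)) := by
    have h1 := inT_eich C hS h hp hpw
    rwa [Matrix.mulVec_smul, ← hz] at h1
  obtain ⟨h0, hg⟩ := hTz
  set g := tv z (avec B (c • z)) h0
  set b := B x z with hb
  have hgx : (g : Matrix (Fin n) (Fin n) F) *ᵥ x = x + (c * b) • z := by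
    rw [coe_tv, tvMat_mulVec, avec_dot, map_smul, LinearMap.smul_apply, C.symm z x, smul_eq_mul]
  obtain ⟨s, hs⟩ := C.avec_surj
    (avec B (c • x) ᵥ* ((g⁻¹ : GL (Fin n) F) : Matrix (Fin n) (Fin n) F))
  have hs' : ∀ v, B s ((g : Matrix (Fin n) (Fin n) F) *ᵥ v) = c * B x v := fun v => by
    rw [← avec_dot, hs, dotProduct_vecMul_inv, avec_dot, map_smul, LinearMap.smul_apply,
      smul_eq_mul]
  have h1 := inT_conj hg h
  rw [← hs] at h1
  refine ⟨_, s, h1, fun e => hx0 ?_, fun hsu => ?_⟩
  · have := congrArg (fun v => ((g⁻¹ : GL (Fin n) F) : Matrix (Fin n) (Fin n) F) *ᵥ v) e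
    simpa [Matrix.mulVec_mulVec, ← Units.val_mul] using this
  · obtain ⟨a, ha⟩ := Submodule.mem_span_singleton.mp hsu
    have hgz : (g : Matrix (Fin n) (Fin n) F) *ᵥ z = z := by
      rw [coe_tv, tvMat_mulVec, h0, zero_smul, add_zero]
    have e1 := hs' z
    have e2 := hs' x
    rw [← ha, hgx, hgz] at e1
    rw [← ha, hgx] at e2
    simp only [map_add, map_smul, LinearMap.add_apply, LinearMap.smul_apply, smul_eq_mul, hzz, hxx,
      C.symm z x, ← hb, mul_zero, add_zero, zero_add] at e1 e2
    have hac : a = c := mul_right_cancel₀ hbz e1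
    subst hac
    have : (2 : F) * (a * a) * (b * b) = 0 := by linear_combination e2
    exact mul_ne_zero (mul_ne_zero C.two (mul_ne_zero hc hc)) (mul_ne_zero hbz hbz) this

/-- Two quadratic forms in five or more variables have a common non-trivial zero. -/
theorem exists_common_zero [Fintype F] (C : Ctx Q B) (h5 : 5 ≤ n) (G : Matrix (Fin n) (Fin n) F) :
    ∃ x, x ≠ 0 ∧ Q x = 0 ∧ Q (G *ᵥ x) = 0 := by
  classical
  let e : Fin n → Fin n → F := fun i => Pi.single i 1
  let poly : LinearMap.BilinForm F (Fin n → F) → MvPolynomial (Fin n) F := fun D =>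
    ∑ i, ∑ j, MvPolynomial.C (D (e i) (e j)) * MvPolynomial.X i * MvPolynomial.X j
  have heval : ∀ D v, MvPolynomial.eval v (poly D) = D v v := by
    intro D v
    conv_rhs => rw [pi_eq_sum_univ' v]
    simp only [poly, map_sum, map_mul, MvPolynomial.eval_C, MvPolynomial.eval_X, map_smul,
      LinearMap.sum_apply, LinearMap.smul_apply, smul_eq_mul, Finset.mul_sum, e]
    rw [Finset.sum_comm]
    exact Finset.sum_congr rfl fun i _ => Finset.sum_congr rfl fun j _ => by ring
  have hdeg : ∀ D, (poly D).totalDegree ≤ 2 := fun D =>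
    MvPolynomial.totalDegree_finsetSum_le fun i _ =>
      MvPolynomial.totalDegree_finsetSum_le fun j _ =>
        (MvPolynomial.totalDegree_mul _ _).trans (by
          refine (Nat.add_le_add_right (MvPolynomial.totalDegree_mul _ _) _).trans ?_
          rw [MvPolynomial.totalDegree_C, MvPolynomial.totalDegree_X, MvPolynomial.totalDegree_X])
  let B' : LinearMap.BilinForm F (Fin n → F) := B.compl₁₂ (Matrix.toLin' G) (Matrix.toLin' G)
  obtain ⟨p, hp⟩ := CharP.exists F
  have hprime : p.Prime := CharP.char_is_prime F p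
  have hdvd := char_dvd_card_solutions_of_add_lt (K := F) p (f₁ := poly B) (f₂ := poly B')
    (by have := hdeg B; have := hdeg B'; have := C.dim; rw [Fintype.card_fin]; omega)
  have hz : MvPolynomial.eval (0 : Fin n → F) (poly B) = 0 ∧
      MvPolynomial.eval (0 : Fin n → F) (poly B') = 0 := by
    rw [heval, heval]; exact ⟨by simp, by simp⟩
  let Z := {x : Fin n → F // MvPolynomial.eval x (poly B) = 0 ∧ MvPolynomial.eval x (poly B') = 0}
  have hpos : 0 < Fintype.card Z := Fintype.card_pos_iff.mpr ⟨⟨0, hz⟩⟩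
  have hgt : 1 < Fintype.card Z := lt_of_lt_of_le hprime.one_lt (Nat.le_of_dvd hpos hdvd)
  obtain ⟨⟨x, hx1, hx2⟩, hne⟩ := Fintype.exists_ne_of_one_lt_card hgt ⟨0, hz⟩
  rw [heval, C.self] at hx1
  rw [heval] at hx2
  refine ⟨x, fun h => hne (Subtype.ext h), (mul_eq_zero.mp hx1).resolve_left C.two, ?_⟩
  rw [show B' x x = B (G *ᵥ x) (G *ᵥ x) from rfl, C.self] at hx2
  exact (mul_eq_zero.mp hx2).resolve_left C.two

/-- Eichler maps of `Q` and of `Q ∘ g` at a common singular vector commute up to a transvection. -/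
theorem comm_transvection (C : Ctx Q B) (hS : HasEich Q B L) {g : GL (Fin n) F} (hg : g ∈ L)
    {B' : LinearMap.BilinForm F (Fin n → F)}
    (hB' : ∀ u v, B' u v =
      B ((g : Matrix (Fin n) (Fin n) F) *ᵥ u) ((g : Matrix (Fin n) (Fin n) F) *ᵥ v))
    {x y q : Fin n → F} (hx : Q x = 0) (hgx : Q ((g : Matrix (Fin n) (Fin n) F) *ᵥ x) = 0)
    (hy : B x y = 0) (hy' : B' x y = 0) (hq : B x q = 0) (hq' : B' x q = 0) :
    ∃ s, InT L x (avec B s) ∧ ∀ v, B s v = B' q y * B x v - B y q * B' x v := by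
  set G : Matrix (Fin n) (Fin n) F := (g : Matrix (Fin n) (Fin n) F)
  set G' : Matrix (Fin n) (Fin n) F := ((g⁻¹ : GL (Fin n) F) : Matrix (Fin n) (Fin n) F)
  have hGG : ∀ v, G' *ᵥ (G *ᵥ v) = v := fun v => by
    rw [Matrix.mulVec_mulVec, ← Units.val_mul, inv_mul_cancel, Units.val_one, Matrix.one_mulVec]
  obtain ⟨k, hk, hke⟩ := hS x y hx hy
  obtain ⟨m₀, hm₀, hm₀e⟩ := hS (G *ᵥ x) (G *ᵥ q) hgx (by rw [← hB', hq'])
  set m := g⁻¹ * m₀ * g
  have hm : m ∈ L := L.mul_mem (L.mul_mem (L.inv_mem hg) hm₀) hg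
  set r := Q (G *ᵥ q)
  have hkv : ∀ v, (k : Matrix (Fin n) (Fin n) F) *ᵥ v =
      v + (B y v - Q y * B x v) • x - B x v • y := fun v => by rw [hke, eich_mulVec]
  have hmv : ∀ v, (m : Matrix (Fin n) (Fin n) F) *ᵥ v =
      v + (B' q v - r * B' x v) • x - B' x v • q := fun v => by
    rw [Units.val_mul, Units.val_mul, ← Matrix.mulVec_mulVec, ← Matrix.mulVec_mulVec, hm₀e,
      eich_mulVec, Matrix.mulVec_sub, Matrix.mulVec_add, Matrix.mulVec_smul, Matrix.mulVec_smul,
      hGG, hGG, hGG, hB', hB']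
  obtain ⟨sx, hsx⟩ := C.avec_surj fun i => B' x (Pi.single i 1)
  have hsx' : ∀ v, B sx v = B' x v := fun v => by
    rw [← avec_dot, hsx]
    conv_rhs => rw [pi_eq_sum_univ' v]
    simp [dotProduct, mul_comm]
  set s := B' q y • x - B y q • sx with hs
  have hsv : ∀ v, B s v = B' q y * B x v - B y q * B' x v := fun v => by
    rw [hs, map_sub, map_smul, map_smul, LinearMap.sub_apply, LinearMap.smul_apply,
      LinearMap.smul_apply, hsx', smul_eq_mul, smul_eq_mul]
  have hxx : B x x = 0 := by rw [C.self, hx, mul_zero]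
  have hxx' : B' x x = 0 := by rw [hB', C.self, hgx, mul_zero]
  have hyx : B y x = 0 := by rw [C.symm, hy]
  have hqx : B' q x = 0 := by rw [hB', C.symm, ← hB', hq']
  have h0 : avec B s ⬝ᵥ x = 0 := by rw [avec_dot, hsv, hxx, hxx']; ring
  refine ⟨s, ⟨h0, ?_⟩, hsv⟩
  have e : tv x (avec B s) h0 * (m * k) = k * m := by
    clear_value m
    refine Units.ext (Matrix.toLin'.injective (LinearMap.ext fun v => ?_))
    simp only [Matrix.toLin'_apply, Units.val_mul, ← Matrix.mulVec_mulVec, coe_tv, tvMat_mulVec,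
      avec_dot, hsv]
    simp only [hkv, hmv, map_add, map_sub, map_smul, smul_eq_mul, hxx, hxx', hyx, hqx, hy, hy',
      hq, hq', mul_zero, add_zero, sub_zero]
    module
  rw [← mul_inv_eq_iff_eq_mul.mpr e.symm] at *
  exact L.mul_mem (L.mul_mem hk hm) (L.inv_mem (L.mul_mem hm hk))

/-- An element outside the similarity group yields a transvection. -/
theorem exists_transvection [Fintype F] (C : Ctx Q B) (h6 : 6 ≤ n) (hS : HasEich Q B L) {g : GL (Fin n) F}
    (hg : g ∈ L) (hgQ : g ∉ Cfsg.Geo.quadSimilarityGroup Q) :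
    ∃ u s, InT L u (avec B s) ∧ u ≠ 0 ∧ s ∉ Submodule.span F {u} := by
  set G : Matrix (Fin n) (Fin n) F := (g : Matrix (Fin n) (Fin n) F)
  let B' : LinearMap.BilinForm F (Fin n → F) := B.compl₁₂ (Matrix.toLin' G) (Matrix.toLin' G)
  have hB' : ∀ u v, B' u v = B (G *ᵥ u) (G *ᵥ v) := fun _ _ => rfl
  have hB's : ∀ u v, B' u v = B' v u := fun u v => C.symm _ _
  have := C.dim
  obtain ⟨x, hx0, hx, hgx⟩ := exists_common_zero C (by omega) G
  have hxx : B x x = 0 := by rw [C.self, hx, mul_zero]
  by_cases hlam : ∃ μ : F, ∀ v, B' x v = μ * B x v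
  swap
  · obtain ⟨sx, hsx⟩ := C.avec_surj fun i => B' x (Pi.single i 1)
    have hsx' : ∀ v, B sx v = B' x v := fun v => by
      rw [← avec_dot, hsx]
      conv_rhs => rw [pi_eq_sum_univ' v]
      simp [dotProduct, mul_comm]
    obtain ⟨y, hy, hQy⟩ := C.exists_nonsingular ![x, sx] (by omega)
    have hy' : B' x y = 0 := by rw [← hsx']; exact hy 1
    obtain ⟨s, hs, hsv⟩ := comm_transvection C hS hg hB' hx hgx (hy 0) hy' (hy 0) hy'
    refine ⟨x, s, hs, hx0, fun h => hlam ?_⟩
    obtain ⟨a, ha⟩ := Submodule.mem_span_singleton.mp h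
    have hb : B y y ≠ 0 := by rw [C.self]; exact mul_ne_zero C.two hQy
    refine ⟨(B' y y - a) / B y y, fun v => ?_⟩
    have h1 := hsv v
    rw [← ha, map_smul, LinearMap.smul_apply, smul_eq_mul] at h1
    field_simp
    linear_combination h1
  obtain ⟨μ, hμ⟩ := hlam
  let D : LinearMap.BilinForm F (Fin n → F) := B' - μ • B
  have hD : ∀ u v, D u v = B' u v - μ * B u v := fun _ _ => rfl
  have hDs : ∀ u v, D u v = D v u := fun u v => by rw [hD, hD, hB's, C.symm u]
  -- a symmetric transvection from a pair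
  have done : ∀ z y q, z ≠ 0 → Q z = 0 → (∀ v, D z v = 0) → B z y = 0 → B z q = 0 → D q y ≠ 0 →
      ∃ u s, InT L u (avec B s) ∧ u ≠ 0 ∧ s ∉ Submodule.span F {u} := by
    intro z y q hz0 hz hDz hzy hzq hne
    have hz' : ∀ v, B' z v = μ * B z v := fun v => sub_eq_zero.mp ((hD z v).symm.trans (hDz v))
    have hgz : Q (G *ᵥ z) = 0 := by
      have h := hz' z
      rw [hB', C.self, C.self, hz, mul_zero, mul_zero] at h
      exact (mul_eq_zero.mp h).resolve_left C.two
    obtain ⟨s, hs, hsv⟩ := comm_transvection C hS hg hB' hz hgz hzy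
      (by rw [hz', hzy, mul_zero]) hzq (by rw [hz', hzq, mul_zero])
    have e : s = D q y • z := C.avec_inj (funext fun i => by
      show B s _ = B (D q y • z) _
      rw [hsv, hz', hD, C.symm y q, map_smul, LinearMap.smul_apply, smul_eq_mul]
      ring)
    exact exists_of_sym C hS hne hz0 hz (e ▸ hs)
  have hDx : ∀ v, D x v = 0 := fun v => by rw [hD, hμ, sub_self]
  by_cases hpair : ∃ y q, B x y = 0 ∧ B x q = 0 ∧ D q y ≠ 0
  · obtain ⟨y, q, hy, hq, hne⟩ := hpair
    exact done x y q hx0 hx hDx hy hq hne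
  push Not at hpair
  obtain ⟨e, -, he⟩ := C.exists_pair ![] (x := x) (by simpa using hx0)
  obtain ⟨l, hl⟩ := C.avec_surj fun i => D e (Pi.single i 1)
  have hl' : ∀ v, B l v = D e v := fun v => by
    rw [← avec_dot, hl]
    conv_rhs => rw [pi_eq_sum_univ' v]
    simp [dotProduct, mul_comm]
  set m := l - (D e e / 2) • x with hm
  have hDm : ∀ v w, D v w = B x v * B m w + B m v * B x w := by
    intro v w
    have h := hpair (w - B x w • e) (v - B x v • e)
      (by rw [map_sub, map_smul, he, smul_eq_mul, mul_one, sub_self])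
      (by rw [map_sub, map_smul, he, smul_eq_mul, mul_one, sub_self])
    simp only [map_sub, map_smul, LinearMap.sub_apply, LinearMap.smul_apply, smul_eq_mul] at h
    simp only [hm, map_sub, map_smul, LinearMap.sub_apply, LinearMap.smul_apply, smul_eq_mul, hl']
    have h2 := C.two
    field_simp
    rw [hDs v e] at h
    linear_combination 2 * h
  have hm0 : m ≠ 0 := by
    intro hm0
    apply hgQ
    have hQ' : ∀ v, Q (G *ᵥ v) = μ * Q v := fun v => by
      refine mul_left_cancel₀ C.two ?_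
      have h := hDm v v
      rw [hm0, hD, hB', C.self, C.self, map_zero, LinearMap.zero_apply] at h
      linear_combination h
    have hμ0 : μ ≠ 0 := by
      rintro rfl
      obtain ⟨y, -, hy⟩ := C.exists_nonsingular ![] (by omega)
      refine hy ?_
      have h := hQ' (((g⁻¹ : GL (Fin n) F) : Matrix (Fin n) (Fin n) F) *ᵥ y)
      rwa [Matrix.mulVec_mulVec, ← Units.val_mul, mul_inv_cancel, Units.val_one, Matrix.one_mulVec,
        zero_mul] at h
    exact ⟨Units.mk0 μ hμ0, hQ'⟩
  -- a singular vector in the radical of `D` off the two lines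
  obtain ⟨z, hz, hz0, hzx, hzm, hzx', hzm'⟩ : ∃ z, Q z = 0 ∧ z ≠ 0 ∧ B x z = 0 ∧ B m z = 0 ∧
      x ∉ Submodule.span F {z} ∧ m ∉ Submodule.span F {z} := by
    have hsw : ∀ {a z : Fin n → F}, a ≠ 0 → a ∈ Submodule.span F {z} →
        z ∈ Submodule.span F {a} := by
      intro a z ha h
      obtain ⟨c, rfl⟩ := Submodule.mem_span_singleton.mp h
      exact Submodule.mem_span_singleton.mpr ⟨c⁻¹, by
        rw [smul_smul, inv_mul_cancel₀ (fun e => ha (by rw [e, zero_smul])), one_smul]⟩
    by_cases hiso : B m m = 0 ∧ B x m = 0 ∧ m ∉ Submodule.span F {x}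
    · obtain ⟨hmm, hxm, hmx⟩ := hiso
      have hQm : Q m = 0 := (mul_eq_zero.mp ((C.self m).symm.trans hmm)).resolve_left C.two
      refine ⟨x + m, by rw [C.add, hx, hQm, hxm]; ring, fun h => hmx ?_, by rw [map_add, hxx, hxm, add_zero],
        by rw [map_add, C.symm m x, hxm, hmm, add_zero], fun h => hmx ?_, fun h => hmx ?_⟩
      · rw [eq_neg_of_add_eq_zero_right h]
        exact Submodule.neg_mem _ (Submodule.mem_span_singleton_self x)
      · have := (Submodule.span F {x}).sub_mem (hsw hx0 h) (Submodule.mem_span_singleton_self x)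
        rwa [add_sub_cancel_left] at this
      · have h1 := (Submodule.span F {m}).sub_mem (hsw hm0 h) (Submodule.mem_span_singleton_self m)
        rw [add_sub_cancel_right] at h1
        exact hsw hx0 h1
    set W := Submodule.span F (Set.range ![x, m])
    have hR : finrank F ↥(perp B ![x, m] ⊓ W) ≤ 1 := by
      by_cases hmx : m ∈ Submodule.span F {x}
      · refine (Submodule.finrank_mono (inf_le_right.trans (Submodule.span_le.mpr ?_))).trans
          (finrank_span_singleton hx0).le
        rintro _ ⟨i, rfl⟩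
        fin_cases i
        · exact Submodule.mem_span_singleton_self x
        · exact hmx
      have hW : finrank F W ≤ 2 :=
        (finrank_range_le_card (R := F) _).trans (Fintype.card_fin 2).le
      have hlt : perp B ![x, m] ⊓ W < W := lt_of_le_of_ne inf_le_right fun e => hiso (by
        have h := mem_perp.mp (e.ge (Submodule.subset_span (Set.mem_range_self 1))).1
        exact ⟨h 1, h 0, hmx⟩)
      have := Submodule.finrank_lt_finrank_of_lt hlt
      omega
    obtain ⟨P, hP⟩ := Submodule.exists_isCompl (perp B ![x, m] ⊓ W)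
    have h1 := Submodule.finrank_add_eq_of_isCompl hP
    have h2 := Submodule.finrank_sup_add_finrank_inf_eq (perp B ![x, m]) P
    have h3 := Submodule.finrank_le (perp B ![x, m] ⊔ P)
    have h4 := finrank_perp (B := B) ![x, m]
    rw [finrank_fin_fun] at h1 h3
    obtain ⟨z, ⟨hzU, hzP⟩, hz0, hzz⟩ :=
      Sing.exists_singular C.smul C.polar (perp B ![x, m] ⊓ P) (by omega)
    have hzW : z ∉ W := fun hzW =>
      hz0 (Submodule.disjoint_def.mp hP.disjoint z ⟨hzU, hzW⟩ hzP)
    refine ⟨z, hzz, hz0, mem_perp.mp hzU 0, mem_perp.mp hzU 1, fun h => hzW ?_, fun h => hzW ?_⟩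
    · exact Submodule.span_mono (by simp) (hsw hx0 h)
    · exact Submodule.span_mono (by simp) (hsw hm0 h)
  obtain ⟨v, hzv, hxv⟩ := C.exists_pair ![z] (x := x) (by simpa using hzx')
  obtain ⟨w, hzw, hmw⟩ := C.exists_pair ![z] (x := m) (by simpa using hzm')
  have hDz : ∀ t, D z t = 0 := fun t => by rw [hDm, hzx, hzm, zero_mul, zero_mul, add_zero]
  have hzv' : B z v = 0 := hzv 0
  have hzw' : B z w = 0 := hzw 0
  by_cases h1 : D v v = 0
  swap
  · exact done z v v hz0 hz hDz hzv' hzv' h1
  by_cases h2 : D w w = 0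
  swap
  · exact done z w w hz0 hz hDz hzw' hzw' h2
  refine done z v w hz0 hz hDz hzv' hzw' fun h3 => ?_
  rw [hDm, hxv, one_mul, mul_one] at h1
  rw [hDm, hmw, mul_one, one_mul] at h2
  rw [hDm, hmw, hxv] at h3
  have hmv : B m v = 0 := (mul_eq_zero.mp ((two_mul _).trans h1)).resolve_left C.two
  have hxw : B x w = 0 := (mul_eq_zero.mp ((two_mul _).trans h2)).resolve_left C.two
  rw [hmv, hxw] at h3
  simp at h3

/-- The maximality, given the last step. -/
theorem isMaximalIn_quadratic_of {F : Type*} [Field F] [Fintype F] (n : ℕ) (hn : 4 ≤ n)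
    (hodd : Odd (Fintype.card F)) (Q : (Fin n → F) → F)
    (hQ : Cfsg.Geo.IsNondegenerateQuadraticForm Q)
    (hstep : ∀ B, Ctx Q B → ∀ L : Subgroup (GL (Fin n) F), HasEich Q B L →
      ∀ g ∈ L, g ∉ Cfsg.Geo.quadSimilarityGroup Q → ∀ z, Full L z) :
    Cfsg.Geo.IsMaximalIn (Cfsg.Geo.specialLinear (Fin n) F)
      (Cfsg.Geo.quadSimilarityGroup Q ⊓ Cfsg.Geo.specialLinear (Fin n) F) := by
  let B : LinearMap.BilinForm F (Fin n → F) := LinearMap.mk₂ F (QuadraticMap.polar Q)
    (fun a b v => hQ.polar_bilinear.add_left a b v) (fun c a v => hQ.polar_bilinear.smul_left c a v)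
    (fun a u v => hQ.polar_bilinear.add_right a u v) (fun c a v => hQ.polar_bilinear.smul_right c a v)
  have C : Ctx Q B :=
    { smul := hQ.smul
      polar := fun u v => rfl
      nondeg := fun v hv => by
        by_contra hne
        obtain ⟨x, hx⟩ := (hQ.nondegenerate v hne).1
        exact hx (hv x)
      two := fun h => by
        haveI : CharP F 2 := CharTwo.of_one_ne_zero_of_two_eq_zero one_ne_zero h
        have h2 := FiniteField.even_card_of_char_two (ringChar.eq F 2)
        rw [Nat.odd_iff] at hodd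
        omega
      dim := hn }
  refine isMaximalIn_of_SL_le (lt_of_le_of_ne inf_le_right fun heq => ?_) fun L hNL hLS hex z => ?_
  · -- a transvection is no similarity
    obtain ⟨v, -, hv⟩ := C.exists_nonsingular ![] (by omega)
    have hv0 : v ≠ 0 := fun h => hv (by rw [h]; exact Sing.apply_zero C.smul)
    obtain ⟨x, hxp, hx⟩ := C.exists_nonsingular ![v] (by omega)
    have hvx : B v x = 0 := hxp 0
    have h0 : avec B v ⬝ᵥ x = 0 := by rw [avec_dot, hvx]
    obtain ⟨c, hc⟩ := (heq.ge (tv_mem_SL x (avec B v) h0)).1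
    have hvv : B v v ≠ 0 := by rw [C.self]; exact mul_ne_zero C.two hv
    have e1 := hc x
    have e2 := hc v
    rw [coe_tv, tvMat_mulVec, avec_dot, hvx, zero_smul, add_zero] at e1
    rw [coe_tv, tvMat_mulVec, avec_dot, C.add, C.smul, map_smul, hvx, smul_zero, add_zero] at e2
    have hc1 : (c : F) = 1 := mul_right_cancel₀ hx (by rw [one_mul]; exact e1.symm)
    rw [hc1, one_mul, add_eq_left] at e2
    exact mul_ne_zero (pow_ne_zero 2 hvv) hx e2
  · have hS : HasEich Q B L := fun p w hp hw => by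
      obtain ⟨k, hk, hke⟩ := eich_mem C hp hw
      exact ⟨k, hNL hk, hke⟩
    obtain ⟨g, hg, hgN⟩ := hex
    exact hstep B C L hS g hg (fun h => hgN (Subgroup.mem_inf.mpr ⟨h, hLS hg⟩)) z

/-- For a finite field F of odd order and n ≥ 6, let Q be a non-degenerate quadratic form on F^n.
The similarities of Q in SL_n(F) form a maximal subgroup of SL_n(F). -/
theorem isMaximalIn_quadratic {F : Type*} [Field F] [Fintype F] (n : ℕ) (hn : 6 ≤ n)
    (hodd : Odd (Fintype.card F)) (Q : (Fin n → F) → F)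
    (hQ : Cfsg.Geo.IsNondegenerateQuadraticForm Q) :
    Cfsg.Geo.IsMaximalIn (Cfsg.Geo.specialLinear (Fin n) F)
      (Cfsg.Geo.quadSimilarityGroup Q ⊓ Cfsg.Geo.specialLinear (Fin n) F) :=
  isMaximalIn_quadratic_of n (by omega) hodd Q hQ fun B C L hS g hg hgQ z => by
    obtain ⟨u, s, h, hu, hsu⟩ := exists_transvection C hn hS hg hgQ
    exact full_of_one C hn hS h hu hsu z

end Cfsg.Lib.Linear.SLMax.Quad
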