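import Cfsg.Agent.Lib.Linear.SLMax.Quadratic

/-!
# Similarity groups of quadratic forms are maximal in `SL₄`

In four variables the forms `Q` and `Q ∘ g` need not have a common singular vector. If this
happens for all outside elements of an overgroup then every Eichler map fixing a singular point of
`Q ∘ g` in `x⊥` preserves `Q ∘ g`; this makes `x⊥` a tangent plane of `Q ∘ g`, so the two
forms are proportional. A common singular vector leads to a transvection.
-/

set_option autoImplicit false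
open Cfsg

namespace Cfsg.Lib.Linear.SLMax.Quad

open scoped Matrix
open Cfsg.Lib.Linear Cfsg.Lib.Linear.TVec Module

variable {F : Type*} [Field F] [Fintype F] {n : ℕ}
  {Q : (Fin n → F) → F} {B : LinearMap.BilinForm F (Fin n → F)} {L : Subgroup (GL (Fin n) F)}

omit [Fintype F] in
theorem Ctx.indep_of_ne (C : Ctx Q B) {u s : Fin n → F} (hu : u ≠ 0) (hus : B u s = 0)
    (hs : Q s ≠ 0) : u ∉ Submodule.span F {s} := fun h => by
  obtain ⟨a, rfl⟩ := Submodule.mem_span_singleton.mp h
  rw [map_smul, LinearMap.smul_apply, C.self, smul_eq_mul, mul_eq_zero] at hus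
  rcases hus with ha | ha
  · exact hu (by rw [ha, zero_smul])
  · exact mul_ne_zero C.two hs ha

/-- One transvection outside the similarity group gives all, in four variables. -/
theorem full_of_one_four (C : Ctx Q B) (hS : HasEich Q B L) {u s : Fin n → F}
    (h : InT L u (avec B s)) (hu : u ≠ 0) (hsu : s ∉ Submodule.span F {u}) (z : Fin n → F) :
    Full L z := by
  have hdim := C.dim
  -- a transvection with non-singular centre or axis
  obtain ⟨u, s, h, hu, hsu, hns⟩ : ∃ u s, InT L u (avec B s) ∧ u ≠ 0 ∧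
      s ∉ Submodule.span F {u} ∧ (Q u ≠ 0 ∨ Q s ≠ 0) := by
    by_cases hns : Q u ≠ 0 ∨ Q s ≠ 0
    · exact ⟨u, s, h, hu, hsu, hns⟩
    push Not at hns
    obtain ⟨hQu, hQs⟩ := hns
    have hBsu : B s u = 0 := by rw [← avec_dot]; exact h.choose
    have hBus : B u s = 0 := by rw [C.symm, hBsu]
    have hs0 : s ≠ 0 := fun e => hsu (e ▸ Submodule.zero_mem _)
    have hus : u ∉ Submodule.span F {s} := fun h' => hsu (by
      obtain ⟨a, ha⟩ := Submodule.mem_span_singleton.mp h'
      have ha0 : a ≠ 0 := fun e => hu (by rw [← ha, e, zero_smul])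
      exact Submodule.mem_span_singleton.mpr
        ⟨a⁻¹, by rw [← ha, smul_smul, inv_mul_cancel₀ ha0, one_smul]⟩)
    have huu : B u u = 0 := by rw [C.self, hQu, mul_zero]
    have hss : B s s = 0 := by rw [C.self, hQs, mul_zero]
    obtain ⟨v, hv, huv⟩ := C.exists_pair ![s] (x := u) (by simpa using hus)
    have hsv : B s v = 0 := hv 0
    set u' := v + (-Q v) • u with hu'
    have hQu' : Q u' = 0 := by
      rw [hu', C.add, C.smul, hQu, map_smul, C.symm v u, huv, smul_eq_mul]; ring
    have huu' : B u u' = 1 := by rw [hu', map_add, map_smul, huv, huu, smul_zero, add_zero]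
    have hsu' : B s u' = 0 := by rw [hu', map_add, map_smul, hsv, hBsu, smul_zero, add_zero]
    obtain ⟨v', hv', hsv'⟩ := C.exists_pair ![u, u'] (x := s) (fun hmem => by
      obtain ⟨c, hc⟩ := (Submodule.mem_span_range_iff_exists_fun F).mp hmem
      rw [Fin.sum_univ_two] at hc
      simp only [Matrix.cons_val_zero, Matrix.cons_val_one, Matrix.cons_val_fin_one] at hc
      have h1 := congrArg (B u) hc
      rw [map_add, map_smul, map_smul, huu, huu', hBus, smul_zero, zero_add, smul_eq_mul,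
        mul_one] at h1
      rw [h1, zero_smul, add_zero] at hc
      exact hsu (Submodule.mem_span_singleton.mpr ⟨c 0, hc⟩))
    have huv' : B u v' = 0 := hv' 0
    have hu'v' : B u' v' = 0 := hv' 1
    set s' := v' + (-Q v') • s with hs'
    have hQs' : Q s' = 0 := by
      rw [hs', C.add, C.smul, hQs, map_smul, C.symm v' s, hsv', smul_eq_mul]; ring
    have hss' : B s s' = 1 := by rw [hs', map_add, map_smul, hsv', hss, smul_zero, add_zero]
    have hus' : B u s' = 0 := by rw [hs', map_add, map_smul, huv', hBus, smul_zero, add_zero]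
    have hu's' : B u' s' = 0 := by
      rw [hs', map_add, map_smul, hu'v', C.symm u' s, hsu', smul_zero, add_zero]
    have hu'u' : B u' u' = 0 := by rw [C.self, hQu', mul_zero]
    have hs's' : B s' s' = 0 := by rw [C.self, hQs', mul_zero]
    set p := u' + s' with hp
    set w := -u + s + u' with hw
    have hQp : Q p = 0 := by rw [hp, C.add, hQu', hQs', hu's']; ring
    have hQw : Q w = -1 := by
      rw [hw, C.add, C.add, hQu', hQs, ← neg_one_smul F u, C.smul, hQu]
      simp only [map_add, LinearMap.add_apply, map_smul, LinearMap.smul_apply, hBus, huu', hsu',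
        smul_eq_mul]
      ring
    have hpw : B p w = 0 := by
      simp only [hp, hw, map_add, map_neg, LinearMap.add_apply, C.symm u' u, C.symm u' s,
        C.symm s' u, C.symm s' s, C.symm s' u', huu', hsu', hus', hss', hu's', hu'u']
      ring
    have h2 := inT_eich C hS h hQp hpw
    have hhu : eich Q B p w *ᵥ u = (2 : F) • u + u' + (2 : F) • s' - s := by
      rw [eich_mulVec, hQw]
      simp only [hp, hw, map_add, map_neg, LinearMap.add_apply, LinearMap.neg_apply, C.symm s u,
        C.symm u' u, C.symm s' u, huu, hBus, huu', hus']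
      match_scalars <;> ring
    have hhs : eich Q B p w *ᵥ s = u + s' := by
      rw [eich_mulVec, hQw]
      simp only [hp, hw, map_add, map_neg, LinearMap.add_apply, LinearMap.neg_apply, C.symm u' s,
        C.symm s' s, hBus, hss, hsu', hss']
      match_scalars <;> ring
    rw [hhu, hhs] at h2
    have h3 := inT_comm h h2 (by
      rw [avec_dot]
      simp only [map_add, LinearMap.add_apply, C.symm s' u, huu, hus']
      ring)
    have hl : avec B s ⬝ᵥ ((2 : F) • u + u' + (2 : F) • s' - s) = 2 := by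
      rw [avec_dot]
      simp only [map_add, map_sub, map_smul, smul_eq_mul, hBsu, hsu', hss', hss]
      ring
    rw [hl, ← avec_smul] at h3
    have h4 := inT_add_right h h3
    rw [← avec_add] at h4
    refine ⟨u, _, h4, hu, fun hmem => ?_, Or.inr ?_⟩
    · obtain ⟨a, ha⟩ := Submodule.mem_span_singleton.mp hmem
      have h5 := congrArg (B s) ha
      simp only [map_add, map_smul, smul_eq_mul, hBsu, hss, hss', mul_zero, zero_add] at h5
      exact C.two (by linear_combination -h5)
    · rw [C.add, hQs, C.smul, C.add, hQu, hQs', hus', map_smul, map_add, hBsu, hss',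
        smul_eq_mul]
      intro e
      exact C.two (by linear_combination e)
  have hBus : B u s = 0 := by rw [C.symm, ← avec_dot]; exact h.choose
  obtain ⟨u, hQu, hfull⟩ : ∃ u, Q u ≠ 0 ∧ Full L u := by
    rcases hns with hQ | hQ
    · exact ⟨u, hQ, full_centre C hS (Or.inr hQ) h hsu⟩
    · obtain ⟨z, hz, hQz⟩ := C.exists_nonsingular ![s] (by omega)
      have hsz : B s z = 0 := hz 0
      have hT := centres C hS (Or.inr hQ) h (C.indep_of_ne hu hBus hQ) z (by rw [C.symm, hsz])
      exact ⟨z, hQz, full_centre C hS (Or.inr hQz) hT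
        (C.indep_of_ne (fun e => hQ (by rw [e]; exact Sing.apply_zero C.smul)) hsz hQz)⟩
  have hns0 : ∀ {z}, Q z ≠ 0 → z ≠ 0 := fun hz e => hz (by rw [e]; exact Sing.apply_zero C.smul)
  have hnonsing : ∀ z, Q z ≠ 0 → Full L z := by
    intro z hQz
    obtain ⟨t, ht, hQt⟩ := C.exists_nonsingular_two ![u, z]
      (Or.inr ⟨0, 0, show B u u ≠ 0 by rw [C.self]; exact mul_ne_zero C.two hQu⟩)
    have hut : B u t = 0 := ht 0
    have hzt : B z t = 0 := ht 1
    have hT : InT L u (avec B t) := hfull _ (by rw [avec_dot, C.symm]; exact hut)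
    exact full_centre C hS (Or.inr hQz)
      (centres C hS (Or.inr hQt) hT (C.indep_of_ne (hns0 hQu) hut hQt) z hzt)
      (C.indep_of_ne (hns0 hQt) (by rw [C.symm, hzt]) hQz)
  by_cases hQz : Q z = 0
  swap
  · exact hnonsing z hQz
  intro a ha
  obtain ⟨s, rfl⟩ := C.avec_surj a
  rw [avec_dot] at ha
  obtain ⟨z₁, hz₁, hQz₁⟩ := C.exists_nonsingular ![s] (by omega)
  have hsz₁ : B s z₁ = 0 := hz₁ 0
  obtain ⟨t, ht0, ht⟩ : ∃ t : F, Q (t • z₁) ≠ 0 ∧ Q (z + (-t) • z₁) ≠ 0 := by
    have hq : ∀ t : F, Q (z + (-t) • z₁) = t ^ 2 * Q z₁ - t * B z z₁ := fun t => by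
      rw [C.add, C.smul, hQz, map_smul, smul_eq_mul]; ring
    have h1 : Q ((1 : F) • z₁) ≠ 0 := by rwa [one_smul]
    have h2 : Q ((-1 : F) • z₁) ≠ 0 := by rw [C.smul]; simpa using hQz₁
    by_cases h : Q (z + (-1 : F) • z₁) = 0
    · refine ⟨-1, h2, fun e => hQz₁ ?_⟩
      rw [hq] at e h
      exact (mul_eq_zero.mp (show 2 * Q z₁ = 0 by linear_combination e + h)).resolve_left C.two
    · exact ⟨1, h1, h⟩
  have h1 := hnonsing _ ht0 (avec B s)
    (by rw [avec_dot, map_smul, hsz₁, smul_zero])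
  have h2 := hnonsing _ ht (avec B s)
    (by rw [avec_dot, map_add, map_smul, hsz₁, smul_zero, add_zero, ha])
  have h3 := inT_add_left h2 h1
  rwa [add_assoc, ← add_smul, neg_add_cancel, zero_smul, add_zero] at h3

/-- A symmetric bilinear form vanishing on the singular vectors is a multiple of `B`. -/
theorem eq_smul_of_vanish (C : Ctx Q B) (D : LinearMap.BilinForm F (Fin n → F))
    (hD : ∀ u v, D u v = D v u) (h : ∀ v, Q v = 0 → D v v = 0) :
    ∃ l : F, ∀ v, D v v = l * B v v := by
  have hdim := C.dim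
  obtain ⟨x, -, hx0, hx⟩ := Sing.exists_singular C.smul C.polar ⊤
    (by rw [finrank_top, finrank_fin_fun]; omega)
  obtain ⟨v, -, hxv⟩ := C.exists_pair ![] (x := x) (by simpa using hx0)
  set y := v + (-Q v) • x with hy
  have hxx : B x x = 0 := by rw [C.self, hx, mul_zero]
  have hxy : B x y = 1 := by rw [hy, map_add, map_smul, hxv, hxx, smul_zero, add_zero]
  have hQy : Q y = 0 := by
    rw [hy, C.add, C.smul, hx, map_smul, C.symm v x, hxv, smul_eq_mul]; ring
  have hyy : B y y = 0 := by rw [C.self, hQy, mul_zero]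
  refine ⟨D x y, ?_⟩
  -- the perpendicular plane
  have key : ∀ x y, Q x = 0 → Q y = 0 → B x y = 1 → ∀ w, B x w = 0 → B y w = 0 →
      D w w = 2 * Q w * D x y ∧ D w x = Q w * D w y := by
    intro x y hx hy hxy w hxw hyw
    have hpt : ∀ t : F, t * t = 1 → D w w + 2 * t * D w x - 2 * (Q w * t) * D w y
        - 2 * Q w * D x y = 0 := by
      intro t ht
      have h0 := h (w + t • x + (-(Q w * t)) • y) (by
        simp only [C.add, C.smul, map_add, map_smul, LinearMap.add_apply, LinearMap.smul_apply,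
          smul_eq_mul, hx, hy, C.symm w x, C.symm w y, hxw, hyw, hxy]
        linear_combination (-Q w) * ht)
      simp only [map_add, map_smul, LinearMap.add_apply, LinearMap.smul_apply, smul_eq_mul,
        hD x w, hD y w, hD y x, h x hx, h y hy] at h0
      linear_combination h0 + 2 * Q w * D x y * ht
    have h1 := hpt 1 (one_mul 1)
    have h2 := hpt (-1) (by ring)
    constructor <;> refine mul_left_cancel₀ C.two ?_
    · linear_combination h1 + h2
    · refine mul_left_cancel₀ C.two ?_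
      linear_combination h1 - h2
  have hab : ∀ w, B x w = 0 → B y w = 0 → D w x = 0 ∧ D w y = 0 := by
    intro w hxw hyw
    have e1 := (key x y hx hQy hxy w hxw hyw).2
    have e2 := (key y x hQy hx (by rw [C.symm, hxy]) w hyw hxw).2
    by_cases hQw : Q w = 0
    · rw [e1, e2, hQw]; simp
    obtain ⟨u, hu, hQu⟩ : ∃ u, (∀ i, B (![x, y, w] i) u = 0) ∧ Q u ≠ 0 := by
      by_contra hne
      push Not at hne
      obtain ⟨u, hu, hu0⟩ := Submodule.exists_mem_ne_zero_of_ne_bot (p := perp B ![x, y, w])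
        (fun e => by
          have h := finrank_perp (B := B) ![x, y, w]
          rw [e, finrank_bot] at h
          omega)
      refine hu0 (C.nondeg u fun z => ?_)
      have hux : B u x = 0 := by rw [C.symm]; exact mem_perp.mp hu 0
      have huy : B u y = 0 := by rw [C.symm]; exact mem_perp.mp hu 1
      have huw : B u w = 0 := by rw [C.symm]; exact mem_perp.mp hu 2
      set z' := z + (-(B y z)) • x + (-(B x z)) • y + (-(B w z / B w w)) • w with hz'
      have hww : B w w ≠ 0 := by rw [C.self]; exact mul_ne_zero C.two hQw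
      have hz'm : z' ∈ perp B ![x, y, w] := mem_perp.mpr fun i => by
        fin_cases i <;>
          simp [hz', hxx, hxy, hxw, hyy, hyw, C.symm y x, C.symm w x, C.symm w y, hww]
      have h1 := hne _ (mem_perp.mp ((perp B _).add_mem hu hz'm))
      rw [C.add, hne u (mem_perp.mp hu), hne z' (mem_perp.mp hz'm), zero_add, zero_add, hz'] at h1
      rw [C.symm]
      simpa [map_add, map_smul, hux, huy, huw] using h1
    have hxu : B x u = 0 := hu 0
    have hyu : B y u = 0 := hu 1
    have hwu : B w u = 0 := hu 2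
    have f1 := (key x y hx hQy hxy (w + u) (by rw [map_add, hxw, hxu, add_zero])
      (by rw [map_add, hyw, hyu, add_zero])).2
    have f2 := (key x y hx hQy hxy (w + (-1 : F) • u) (by rw [map_add, map_smul, hxw, hxu, smul_zero,
      add_zero]) (by rw [map_add, map_smul, hyw, hyu, smul_zero, add_zero])).2
    have e3 := (key x y hx hQy hxy u hxu hyu).2
    simp only [C.add, C.smul, map_add, map_smul, LinearMap.add_apply, LinearMap.smul_apply,
      smul_eq_mul, hwu] at f1 f2
    have hb : D w y = 0 := by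
      have : 2 * Q u * D w y = 0 := by linear_combination -f1 - f2 + 2 * e1
      exact (mul_eq_zero.mp this).resolve_left (mul_ne_zero C.two hQu)
    exact ⟨by rw [e1, hb, mul_zero], hb⟩
  intro z
  set w := z + (-(B y z)) • x + (-(B x z)) • y with hw
  have hxw : B x w = 0 := by simp [hw, hxx, hxy]
  have hyw : B y w = 0 := by simp [hw, hyy, C.symm y x, hxy]
  obtain ⟨hwx, hwy⟩ := hab w hxw hyw
  have hww := (key x y hx hQy hxy w hxw hyw).1
  have ez : z = w + B y z • x + B x z • y := by rw [hw]; module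
  have hzz : B z z = 2 * Q w + 2 * (B y z * B x z) := by
    conv_lhs => rw [ez]
    simp only [map_add, map_smul, LinearMap.add_apply, LinearMap.smul_apply, smul_eq_mul,
      C.symm w x, C.symm w y, hxw, hyw, hxx, hyy, hxy, C.symm y x, C.self w]
    ring
  rw [hzz]
  conv_lhs => rw [ez]
  simp only [map_add, map_smul, LinearMap.add_apply, LinearMap.smul_apply, smul_eq_mul,
    hD x w, hD y w, hD y x, hwx, hwy, h x hx, h y hQy, hww]
  ring

omit [Fintype F] in
theorem GL_inv_mulVec (g : GL (Fin n) F) (v : Fin n → F) :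
    ((g⁻¹ : GL (Fin n) F) : Matrix (Fin n) (Fin n) F) *ᵥ
      ((g : Matrix (Fin n) (Fin n) F) *ᵥ v) = v := by
  rw [Matrix.mulVec_mulVec, ← Units.val_mul, inv_mul_cancel, Units.val_one, Matrix.one_mulVec]

omit [Fintype F] in
theorem GL_mulVec_inv (g : GL (Fin n) F) (v : Fin n → F) :
    (g : Matrix (Fin n) (Fin n) F) *ᵥ
      (((g⁻¹ : GL (Fin n) F) : Matrix (Fin n) (Fin n) F) *ᵥ v) = v := by
  rw [Matrix.mulVec_mulVec, ← Units.val_mul, mul_inv_cancel, Units.val_one, Matrix.one_mulVec]

/-- Some element of an overgroup gives a common singular vector. -/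
theorem exists_common_four (C : Ctx Q B) (hS : HasEich Q B L) {g : GL (Fin n) F} (hg : g ∈ L)
    (hgQ : g ∉ Cfsg.Geo.quadSimilarityGroup Q) :
    ∃ g' ∈ L, g' ∉ Cfsg.Geo.quadSimilarityGroup Q ∧ ∃ x, x ≠ 0 ∧ Q x = 0 ∧
      Q ((g' : Matrix (Fin n) (Fin n) F) *ᵥ x) = 0 := by
  have hdim := C.dim
  by_contra H
  push Not at H
  set G : Matrix (Fin n) (Fin n) F := (g : Matrix (Fin n) (Fin n) F) with hG
  set Gi : Matrix (Fin n) (Fin n) F := ((g⁻¹ : GL (Fin n) F) : Matrix (Fin n) (Fin n) F) with hGi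
  let Q' : (Fin n → F) → F := fun v => Q (G *ᵥ v)
  let B' : LinearMap.BilinForm F (Fin n → F) := B.compl₁₂ (Matrix.toLin' G) (Matrix.toLin' G)
  have hB' : ∀ u v, B' u v = B (G *ᵥ u) (G *ᵥ v) := fun _ _ => rfl
  have hQ's : ∀ (c : F) v, Q' (c • v) = c ^ 2 * Q' v := fun c v => by
    show Q (G *ᵥ (c • v)) = _
    rw [Matrix.mulVec_smul, C.smul]
  have hQ'B : ∀ u v, QuadraticMap.polar Q' u v = B' u v := fun u v => by
    rw [hB', ← C.polar, QuadraticMap.polar, QuadraticMap.polar]
    show Q (G *ᵥ (u + v)) - Q (G *ᵥ u) - Q (G *ᵥ v) = _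
    rw [Matrix.mulVec_add]
  have hinj : ∀ {v}, v ≠ 0 → G *ᵥ v ≠ 0 := fun {v} hv e => hv (by
    rw [← GL_inv_mulVec g v, ← hG, e, Matrix.mulVec_zero])
  have hdis : ∀ x, x ≠ 0 → Q x = 0 → Q' x ≠ 0 := H g hg hgQ
  -- Eichler maps fixing a singular point of `Q'` fix `Q'`
  have hfix : ∀ x w v, Q x = 0 → B x w = 0 → v ≠ 0 → Q' v = 0 → eich Q B x w *ᵥ v = v →
      ∀ u, Q' u = 0 → Q' (eich Q B x w *ᵥ u) = 0 := by
    intro x w v hx hxw hv0 hv hev u hu
    obtain ⟨k, hk, hke⟩ := hS x w hx hxw
    set g' := g * k * g⁻¹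
    have hg' : g' ∈ L := L.mul_mem (L.mul_mem hg hk) (L.inv_mem hg)
    have hval : ∀ v, (g' : Matrix (Fin n) (Fin n) F) *ᵥ (G *ᵥ v) =
        G *ᵥ (eich Q B x w *ᵥ v) := fun v => by
      rw [Units.val_mul, Units.val_mul, ← Matrix.mulVec_mulVec, ← Matrix.mulVec_mulVec,
        GL_inv_mulVec, hke]
    by_contra hne
    have hN : g' ∉ Cfsg.Geo.quadSimilarityGroup Q := fun ⟨c, hc⟩ => hne (by
      show Q (G *ᵥ _) = 0
      rw [← hval, hc, show Q (G *ᵥ u) = 0 from hu, mul_zero])
    exact H g' hg' hN (G *ᵥ v) (hinj hv0) hv (by rw [hval, hev]; exact hv)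
  -- tangent planes
  have htan : ∀ x, x ≠ 0 → Q x = 0 → ∃ v, v ≠ 0 ∧ Q' v = 0 ∧
      ∀ u, B x u = 0 → B' v u = 0 := by
    intro x hx0 hx
    have hxx : B x x = 0 := by rw [C.self, hx, mul_zero]
    have hU : 3 ≤ finrank F (perp B ![x]) := by have := finrank_perp (B := B) ![x]; omega
    obtain ⟨v, hvm, hv0, hv⟩ := Sing.exists_singular hQ's hQ'B (perp B ![x]) hU
    have hxv : B x v = 0 := mem_perp.mp hvm 0
    refine ⟨v, hv0, hv, ?_⟩
    set P := Submodule.span F (Set.range ![x, v]) with hP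
    have hin : ∀ v₂, B x v₂ = 0 → Q' v₂ = 0 → v₂ ∈ P := by
      intro v₂ hxv₂ hv₂
      by_contra hnot
      obtain ⟨w, hw, hwv₂⟩ := C.exists_pair ![x, v] (x := v₂) hnot
      have hxw : B x w = 0 := hw 0
      have hvw : B v w = 0 := hw 1
      have hE : ∀ (c : F) (u : Fin n → F), B x u = 0 →
          eich Q B x (c • w) *ᵥ u = u + (c * B w u) • x := fun c u hxu => by
        rw [eich_mulVec, hxu, map_smul, LinearMap.smul_apply, smul_eq_mul, mul_zero, sub_zero,
          zero_smul, sub_zero]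
      have hQ' : ∀ c : F, Q' (v₂ + c • x) = 0 := fun c => by
        have h1 := hfix x (c • w) v hx (by rw [map_smul, hxw, smul_zero]) hv0 hv
          (by rw [hE c v hxv, C.symm w v, hvw, mul_zero, zero_smul, add_zero]) v₂ hv₂
        rwa [hE c v₂ hxv₂, C.symm w v₂, hwv₂, mul_one] at h1
      have e : ∀ c : F, c * B' v₂ x + c ^ 2 * Q' x = 0 := fun c => by
        have h1 := hQ' c
        rw [Sing.apply_add hQ'B, hQ's, hv₂, map_smul, smul_eq_mul] at h1
        linear_combination h1
      refine mul_ne_zero C.two (hdis x hx0 hx) ?_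
      linear_combination e 1 + e (-1)
    have hout : ∀ u, B x u = 0 → u ∉ P → B' v u = 0 := by
      intro u hxu huP
      by_contra hne
      have h1 := hin (u + (-(Q' u / B' v u)) • v)
        (by rw [map_add, map_smul, hxu, hxv, smul_zero, add_zero]) (by
          rw [Sing.apply_add hQ'B, hQ's, hv, map_smul, Sing.isSymm hQ'B u v, smul_eq_mul]
          field_simp
          ring)
      have h2 := P.sub_mem h1 (P.smul_mem (-(Q' u / B' v u))
        (Submodule.subset_span (Set.mem_range_self 1) : v ∈ P))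
      exact huP (by simpa using h2)
    obtain ⟨u₀, hu₀, hu₀P⟩ : ∃ u ∈ perp B ![x], u ∉ P := SetLike.not_le_iff_exists.mp fun hle => by
      have h1 := Submodule.finrank_mono hle
      have h2 : finrank F P ≤ 2 :=
        (finrank_range_le_card (R := F) _).trans (Fintype.card_fin 2).le
      omega
    intro u hxu
    by_cases huP : u ∈ P
    · have h1 := hout (u + u₀) (by rw [map_add, hxu, show B x u₀ = 0 from mem_perp.mp hu₀ 0, add_zero])
        (fun hm => hu₀P (by simpa using P.sub_mem hm huP))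
      rwa [map_add, hout u₀ (mem_perp.mp hu₀ 0) hu₀P, add_zero] at h1
    · exact hout u hxu huP
  -- the adjoint inverse of `g` preserves the singular vectors
  let Φ : (Fin n → F) →ₗ[F] (Fin n → F) :=
    { toFun := avec B, map_add' := avec_add, map_smul' := avec_smul }
  let Φe := LinearEquiv.ofBijective Φ ⟨C.avec_inj, C.avec_surj⟩
  let t : (Fin n → F) →ₗ[F] (Fin n → F) :=
    Φe.symm.toLinearMap ∘ₗ (Matrix.vecMulLinear Gi) ∘ₗ Φ
  have ht : ∀ y u, B (t y) u = B y (Gi *ᵥ u) := fun y u => by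
    rw [← avec_dot, ← avec_dot y (Gi *ᵥ u), Matrix.dotProduct_mulVec]
    congr 1
    exact Φe.apply_symm_apply (avec B y ᵥ* Gi)
  have hts : ∀ x, Q x = 0 → Q (t x) = 0 := by
    intro x hx
    rcases eq_or_ne x 0 with rfl | hx0
    · rw [map_zero]; exact Sing.apply_zero C.smul
    obtain ⟨v, hv0, hv, hperp⟩ := htan x hx0 hx
    obtain ⟨e, -, he⟩ := C.exists_pair ![] (x := x) (by simpa using hx0)
    have h1 : ∀ u, B' v u = B' v e * B x u := fun u => by
      have h := hperp (u - B x u • e) (by rw [map_sub, map_smul, he, smul_eq_mul, mul_one, sub_self])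
      rw [map_sub, map_smul, smul_eq_mul, sub_eq_zero] at h
      linear_combination h
    have h2 : G *ᵥ v = B' v e • t x := by
      rw [← sub_eq_zero]
      refine C.nondeg _ fun u => ?_
      rw [C.symm, map_sub, LinearMap.sub_apply, map_smul, LinearMap.smul_apply, ht, smul_eq_mul,
        ← h1, hB', GL_mulVec_inv, sub_self]
    have hne : B' v e ≠ 0 := fun h => hinj hv0 (by rw [h2, h, zero_smul])
    have h3 : Q (G *ᵥ v) = 0 := hv
    rw [h2, C.smul] at h3
    exact (mul_eq_zero.mp h3).resolve_left (pow_ne_zero 2 hne)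
  let D : LinearMap.BilinForm F (Fin n → F) := B.compl₁₂ t t
  obtain ⟨l, hl⟩ := eq_smul_of_vanish C D (fun _ _ => C.symm _ _) fun v hv => by
    show B (t v) (t v) = 0
    rw [C.self, hts v hv, mul_zero]
  have hB2 : ∀ y₁ y₂, B (t y₁) (t y₂) = l * B y₁ y₂ := by
    intro y₁ y₂
    have h := hl (y₁ + y₂)
    change B (t (y₁ + y₂)) (t (y₁ + y₂)) = _ at h
    simp only [map_add, LinearMap.add_apply] at h
    have h1 : B (t y₁) (t y₁) = l * B y₁ y₁ := hl y₁
    have h2 : B (t y₂) (t y₂) = l * B y₂ y₂ := hl y₂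
    rw [C.symm y₂ y₁, C.symm (t y₂) (t y₁)] at h
    refine mul_left_cancel₀ C.two ?_
    linear_combination h - h1 - h2
  have hG' : ∀ y, t y = l • (G *ᵥ y) := fun y => by
    have h1 : Gi *ᵥ t y = l • y := by
      rw [← sub_eq_zero]
      refine C.nondeg _ fun u => ?_
      rw [C.symm, map_sub, map_smul, LinearMap.sub_apply, LinearMap.smul_apply, smul_eq_mul,
        C.symm (Gi *ᵥ t y) u, ← ht, hB2, C.symm u y, sub_self]
    calc t y = G *ᵥ (Gi *ᵥ t y) := (GL_mulVec_inv g _).symm
      _ = _ := by rw [h1, Matrix.mulVec_smul]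
  have hl0 : l ≠ 0 := by
    rintro rfl
    obtain ⟨x, -, hx0, -⟩ := Sing.exists_singular C.smul C.polar ⊤
      (by rw [finrank_top, finrank_fin_fun]; omega)
    refine hx0 (C.nondeg x fun u => ?_)
    have h := ht x (G *ᵥ u)
    rw [GL_inv_mulVec, hG', zero_smul, map_zero, LinearMap.zero_apply] at h
    rw [C.symm]
    exact h.symm
  refine hgQ ⟨(Units.mk0 l hl0)⁻¹, fun v => ?_⟩
  have h := hB2 v v
  simp only [hG', map_smul, LinearMap.smul_apply, smul_eq_mul, C.self, ← hG] at h
  rw [Units.val_inv_eq_inv_val, Units.val_mk0, ← hG]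
  field_simp
  refine mul_left_cancel₀ (mul_ne_zero C.two hl0) ?_
  linear_combination h

/-- A common singular vector whose two polar hyperplanes differ gives a transvection. -/
theorem transvection_of_nlam (C : Ctx Q B) (hS : HasEich Q B L) {g : GL (Fin n) F} (hg : g ∈ L)
    {x : Fin n → F} (hx0 : x ≠ 0) (hx : Q x = 0) (hgx : Q ((g : Matrix (Fin n) (Fin n) F) *ᵥ x) = 0)
    (hlam : ¬ ∃ μ : F, ∀ v, B ((g : Matrix (Fin n) (Fin n) F) *ᵥ x)
      ((g : Matrix (Fin n) (Fin n) F) *ᵥ v) = μ * B x v) :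
    ∃ u s, InT L u (avec B s) ∧ u ≠ 0 ∧ s ∉ Submodule.span F {u} := by
  set G : Matrix (Fin n) (Fin n) F := (g : Matrix (Fin n) (Fin n) F)
  let B' : LinearMap.BilinForm F (Fin n → F) := B.compl₁₂ (Matrix.toLin' G) (Matrix.toLin' G)
  have hB' : ∀ u v, B' u v = B (G *ᵥ u) (G *ᵥ v) := fun _ _ => rfl
  have hB's : ∀ u v, B' u v = B' v u := fun u v => C.symm _ _
  have hxx : B x x = 0 := by rw [C.self, hx, mul_zero]
  obtain ⟨sx, hsx⟩ := C.avec_surj fun i => B' x (Pi.single i 1)
  have hsx' : ∀ v, B sx v = B' x v := fun v => by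
    rw [← avec_dot, hsx]
    conv_rhs => rw [pi_eq_sum_univ' v]
    simp [dotProduct, mul_comm]
  by_cases hy : ∃ y, (∀ i, B (![x, sx] i) y = 0) ∧ Q y ≠ 0
  · obtain ⟨y, hy, hQy⟩ := hy
    have hy' : B' x y = 0 := by rw [← hsx']; exact hy 1
    obtain ⟨s, hs, hsv⟩ := comm_transvection C hS hg hB' hx hgx (hy 0) hy' (hy 0) hy'
    refine ⟨x, s, hs, hx0, fun h => hlam ?_⟩
    obtain ⟨a, ha⟩ := Submodule.mem_span_singleton.mp h
    have hb : B y y ≠ 0 := by rw [C.self]; exact mul_ne_zero C.two hQy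
    refine ⟨(B' y y - a) / B y y, fun v => ?_⟩
    have h1 := hsv v
    rw [← ha, map_smul, LinearMap.smul_apply, smul_eq_mul] at h1
    rw [← hB']
    field_simp
    linear_combination h1
  -- the span of `x` and `sx` is totally singular
  have hTS : ∀ i j, B (![x, sx] i) (![x, sx] j) = 0 := by
    by_contra hne
    push Not at hne
    exact hy (C.exists_nonsingular_two _ (Or.inr hne))
  set w := sx with hw
  have hxw : B x w = 0 := hTS 0 1
  have hww : B w w = 0 := hTS 1 1
  have hxw' : B' x w = 0 := by rw [← hsx']; exact hww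
  by_cases hne : B' w w = 0
  swap
  · obtain ⟨s, hs, hsv⟩ := comm_transvection C hS hg hB' hx hgx hxw hxw' hxw hxw'
    have e : s = B' w w • x := C.avec_inj (funext fun i => by
      show B s _ = B (B' w w • x) _
      rw [hsv, hww, map_smul, LinearMap.smul_apply, smul_eq_mul]
      ring)
    exact exists_of_sym C hS hne hx0 hx (e ▸ hs)
  -- a common singular line
  have hwx : w ∉ Submodule.span F {x} := fun h => hlam (by
    obtain ⟨a, ha⟩ := Submodule.mem_span_singleton.mp h
    exact ⟨a, fun v => by rw [← hB', ← hsx' v, ← ha, map_smul, LinearMap.smul_apply, smul_eq_mul]⟩)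
  obtain ⟨u, hu, hwu⟩ := C.exists_pair ![x] (x := w) (by simpa using hwx)
  have hxu : B x u = 0 := hu 0
  obtain ⟨h₁, hh₁, hh₁e⟩ := hS x u hx hxu
  obtain ⟨h₂, hh₂, hh₂e⟩ := hS x (-u) hx (by rw [map_neg, hxu, neg_zero])
  obtain ⟨m₀, hm₀, hm₀e⟩ := hS (G *ᵥ x) (G *ᵥ w) hgx (by rw [← hB', hxw'])
  set m := g⁻¹ * m₀ * g
  have hm : m ∈ L := L.mul_mem (L.mul_mem (L.inv_mem hg) hm₀) hg
  have hQw' : Q (G *ᵥ w) = 0 := by
    have h := hne
    rw [hB', C.self] at h
    exact (mul_eq_zero.mp h).resolve_left C.two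
  have hmv : ∀ v, (m : Matrix (Fin n) (Fin n) F) *ᵥ v = v + B' w v • x - B w v • w := fun v => by
    rw [Units.val_mul, Units.val_mul, ← Matrix.mulVec_mulVec, ← Matrix.mulVec_mulVec, hm₀e,
      eich_mulVec, hQw', zero_mul, sub_zero, Matrix.mulVec_sub, Matrix.mulVec_add,
      Matrix.mulVec_smul, Matrix.mulVec_smul, GL_inv_mulVec, GL_inv_mulVec, GL_inv_mulVec,
      hsx', hB', hB']
  have h1v : ∀ v, (h₁ : Matrix (Fin n) (Fin n) F) *ᵥ v =
      v + (B u v - Q u * B x v) • x - B x v • u := fun v => by rw [hh₁e, eich_mulVec]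
  have h2v : ∀ v, (h₂ : Matrix (Fin n) (Fin n) F) *ᵥ v =
      v + (-B u v - Q u * B x v) • x + B x v • u := fun v => by
    rw [hh₂e, eich_mulVec, ← neg_one_smul F u, C.smul, map_smul, LinearMap.smul_apply,
      smul_eq_mul, smul_smul]
    match_scalars <;> ring
  have huu : B u u = 2 * Q u := C.self u
  have hwx' : B' w x = 0 := by rw [hB's, hxw']
  have hbx : B u x = 0 := by rw [C.symm, hxu]
  have h12 : h₁⁻¹ = h₂ := by
    refine inv_eq_of_mul_eq_one_right (Units.ext (Matrix.toLin'.injective (LinearMap.ext fun v => ?_)))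
    simp only [Matrix.toLin'_apply, Units.val_mul, ← Matrix.mulVec_mulVec, Units.val_one,
      Matrix.one_mulVec]
    rw [h2v v, h1v]
    simp only [map_add, map_smul, smul_eq_mul, huu, hbx, hxu, hxx]
    match_scalars <;> ring
  have hd : avec B ((-2 : F) • x) ⬝ᵥ x = 0 := by
    rw [avec_dot, map_smul, LinearMap.smul_apply, hxx, smul_zero]
  have e : tv x (avec B ((-2 : F) • x)) hd * (m * m) = h₁ * m * h₁⁻¹ * (h₁⁻¹ * m * h₁) := by
    rw [h12]
    refine Units.ext (Matrix.toLin'.injective (LinearMap.ext fun v => ?_))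
    simp only [Matrix.toLin'_apply, Units.val_mul, ← Matrix.mulVec_mulVec, coe_tv, tvMat_mulVec,
      avec_dot]
    simp only [h1v, h2v, hmv, map_add, map_sub, map_smul, LinearMap.smul_apply, smul_eq_mul, hxx,
      hxw, hww, hne, hwx', hbx, hxu, huu, C.symm w x, C.symm u w, hwu, mul_zero, add_zero,
      sub_zero, mul_one]
    match_scalars <;> ring
  have hT : InT L x (avec B ((-2 : F) • x)) := by
    refine ⟨hd, ?_⟩
    rw [← mul_inv_eq_iff_eq_mul.mpr e.symm]
    exact L.mul_mem (L.mul_mem (L.mul_mem (L.mul_mem hh₁ hm) (L.inv_mem hh₁))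
      (L.mul_mem (L.mul_mem (L.inv_mem hh₁) hm) hh₁)) (L.inv_mem (L.mul_mem hm hm))
  exact exists_of_sym C hS (neg_ne_zero.mpr C.two) hx0 hx hT

/-- An element outside the similarity group yields a transvection, in four variables. -/
theorem exists_transvection_four (C : Ctx Q B) (hS : HasEich Q B L) {g₀ : GL (Fin n) F}
    (hg₀ : g₀ ∈ L) (hg₀Q : g₀ ∉ Cfsg.Geo.quadSimilarityGroup Q) :
    ∃ u s, InT L u (avec B s) ∧ u ≠ 0 ∧ s ∉ Submodule.span F {u} := by
  obtain ⟨g, hg, hgQ, x, hx0, hx, hgx⟩ := exists_common_four C hS hg₀ hg₀Q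
  set G : Matrix (Fin n) (Fin n) F := (g : Matrix (Fin n) (Fin n) F)
  let B' : LinearMap.BilinForm F (Fin n → F) := B.compl₁₂ (Matrix.toLin' G) (Matrix.toLin' G)
  have hB' : ∀ u v, B' u v = B (G *ᵥ u) (G *ᵥ v) := fun _ _ => rfl
  have hB's : ∀ u v, B' u v = B' v u := fun u v => C.symm _ _
  have hdim := C.dim
  have hxx : B x x = 0 := by rw [C.self, hx, mul_zero]
  by_cases hlam : ∃ μ : F, ∀ v, B' x v = μ * B x v
  swap
  · exact transvection_of_nlam C hS hg hx0 hx hgx hlam
  obtain ⟨μ, hμ⟩ := hlam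
  let D : LinearMap.BilinForm F (Fin n → F) := B' - μ • B
  have hD : ∀ u v, D u v = B' u v - μ * B u v := fun _ _ => rfl
  have hDs : ∀ u v, D u v = D v u := fun u v => by rw [hD, hD, hB's, C.symm u]
  -- a symmetric transvection from a pair
  have done : ∀ z y q, z ≠ 0 → Q z = 0 → (∀ v, D z v = 0) → B z y = 0 → B z q = 0 → D q y ≠ 0 →
      ∃ u s, InT L u (avec B s) ∧ u ≠ 0 ∧ s ∉ Submodule.span F {u} := by
    intro z y q hz0 hz hDz hzy hzq hne
    have hz' : ∀ v, B' z v = μ * B z v := fun v => sub_eq_zero.mp ((hD z v).symm.trans (hDz v))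
    have hgz : Q (G *ᵥ z) = 0 := by
      have h := hz' z
      rw [hB', C.self, C.self, hz, mul_zero, mul_zero] at h
      exact (mul_eq_zero.mp h).resolve_left C.two
    obtain ⟨s, hs, hsv⟩ := comm_transvection C hS hg hB' hz hgz hzy
      (by rw [hz', hzy, mul_zero]) hzq (by rw [hz', hzq, mul_zero])
    have e : s = D q y • z := C.avec_inj (funext fun i => by
      show B s _ = B (D q y • z) _
      rw [hsv, hz', hD, C.symm y q, map_smul, LinearMap.smul_apply, smul_eq_mul]
      ring)
    exact exists_of_sym C hS hne hz0 hz (e ▸ hs)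
  have hDx : ∀ v, D x v = 0 := fun v => by rw [hD, hμ, sub_self]
  by_cases hpair : ∃ y q, B x y = 0 ∧ B x q = 0 ∧ D q y ≠ 0
  · obtain ⟨y, q, hy, hq, hne⟩ := hpair
    exact done x y q hx0 hx hDx hy hq hne
  push Not at hpair
  obtain ⟨e, -, he⟩ := C.exists_pair ![] (x := x) (by simpa using hx0)
  obtain ⟨l, hl⟩ := C.avec_surj fun i => D e (Pi.single i 1)
  have hl' : ∀ v, B l v = D e v := fun v => by
    rw [← avec_dot, hl]
    conv_rhs => rw [pi_eq_sum_univ' v]
    simp [dotProduct, mul_comm]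
  set m := l - (D e e / 2) • x with hm
  have hDm : ∀ v w, D v w = B x v * B m w + B m v * B x w := by
    intro v w
    have h := hpair (w - B x w • e) (v - B x v • e)
      (by rw [map_sub, map_smul, he, smul_eq_mul, mul_one, sub_self])
      (by rw [map_sub, map_smul, he, smul_eq_mul, mul_one, sub_self])
    simp only [map_sub, map_smul, LinearMap.sub_apply, LinearMap.smul_apply, smul_eq_mul] at h
    simp only [hm, map_sub, map_smul, LinearMap.sub_apply, LinearMap.smul_apply, smul_eq_mul, hl']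
    have h2 := C.two
    field_simp
    rw [hDs v e] at h
    linear_combination 2 * h
  have hQ' : ∀ v, 2 * Q (G *ᵥ v) = μ * (2 * Q v) + 2 * (B x v * B m v) := fun v => by
    have h := hDm v v
    rw [hD, hB', C.self, C.self] at h
    linear_combination h
  have hμ0 : μ ≠ 0 := by
    rintro rfl
    refine hx0 ((GL_inv_mulVec g x).symm.trans ?_)
    rw [show (g : Matrix (Fin n) (Fin n) F) *ᵥ x = 0 from C.nondeg _ fun u => by
      have h := hμ (((g⁻¹ : GL (Fin n) F) : Matrix (Fin n) (Fin n) F) *ᵥ u)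
      rwa [hB', GL_mulVec_inv, zero_mul, C.symm] at h, Matrix.mulVec_zero]
  have hm0 : m ≠ 0 := by
    intro hm0
    apply hgQ
    refine ⟨Units.mk0 μ hμ0, fun v => ?_⟩
    have h := hQ' v
    rw [hm0, map_zero, LinearMap.zero_apply, mul_zero, mul_zero, add_zero] at h
    exact mul_left_cancel₀ C.two (by rw [Units.val_mk0]; linear_combination h)
  have hmx : B m x = 0 := by
    have h := hDx e
    rwa [hDm, hxx, he, zero_mul, zero_add, mul_one] at h
  by_cases hQm : Q m = 0
  swap
  · -- a second common singular vector on the conic in `m⊥`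
    obtain ⟨z, hz, hmz, hxz⟩ := C.exists_sing_pair m (Or.inr (Or.inr hQm))
      (C.indep_of_ne hx0 (by rw [C.symm, hmx]) hQm)
    have hz0 : z ≠ 0 := fun e => hxz (by rw [e, map_zero])
    have hgz : Q (G *ᵥ z) = 0 := by
      have h := hQ' z
      rw [hz, hmz, mul_zero, mul_zero, mul_zero, mul_zero, add_zero] at h
      exact (mul_eq_zero.mp h).resolve_left C.two
    refine transvection_of_nlam C hS hg hz0 hz hgz ?_
    rintro ⟨ν, hν⟩
    have h1 : ∀ v, B x z * B m v = (ν - μ) * B z v := fun v => by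
      have h := hDm z v
      rw [hD, hmz, zero_mul, add_zero, hB', hν] at h
      linear_combination -h
    have h2 : B x z • m = (ν - μ) • z := C.avec_inj (funext fun i => by
      show B (B x z • m) _ = B ((ν - μ) • z) _
      simpa using h1 _)
    have h3 := congrArg Q h2
    rw [C.smul, C.smul, hz, mul_zero] at h3
    exact mul_ne_zero (pow_ne_zero 2 hxz) hQm h3
  by_cases hmx' : m ∈ Submodule.span F {x}
  swap
  · -- a singular vector in the radical of `D` off the two lines
    set z := x + m with hz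
    have hxm : B x m = 0 := by rw [C.symm, hmx]
    have hmm : B m m = 0 := by rw [C.self, hQm, mul_zero]
    have hQz : Q z = 0 := by rw [hz, C.add, hx, hQm, hxm]; ring
    have hxz : B x z = 0 := by rw [hz, map_add, hxx, hxm, add_zero]
    have hmz : B m z = 0 := by rw [hz, map_add, hmx, hmm, add_zero]
    have hz0 : z ≠ 0 := fun h => hmx' (by
      rw [eq_neg_of_add_eq_zero_right h]
      exact Submodule.neg_mem _ (Submodule.mem_span_singleton_self x))
    have hzx : x ∉ Submodule.span F {z} := fun h => by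
      obtain ⟨a, ha⟩ := Submodule.mem_span_singleton.mp h
      rw [hz] at ha
      have ha0 : a ≠ 0 := fun e => hx0 (by rw [← ha, e, zero_smul])
      refine hmx' (Submodule.mem_span_singleton.mpr ⟨a⁻¹ - 1, ?_⟩)
      have h1 := congrArg (fun v => a⁻¹ • v) ha
      simp only [smul_smul, inv_mul_cancel₀ ha0, one_smul] at h1
      rw [sub_smul, one_smul, ← h1, add_sub_cancel_left]
    have hzm : m ∉ Submodule.span F {z} := fun h => by
      obtain ⟨a, ha⟩ := Submodule.mem_span_singleton.mp h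
      rw [hz] at ha
      by_cases ha1 : a = 1
      · rw [ha1, one_smul, add_eq_right] at ha; exact hx0 ha
      · refine hmx' (Submodule.mem_span_singleton.mpr ⟨(1 - a)⁻¹ * a, ?_⟩)
        have h1 : (1 - a) • m = a • x := by linear_combination (norm := module) -ha
        rw [← smul_smul, ← h1, smul_smul, inv_mul_cancel₀ (sub_ne_zero.mpr (Ne.symm ha1)),
          one_smul]
    obtain ⟨v, hzv, hxv⟩ := C.exists_pair ![z] (x := x) (by simpa using hzx)
    obtain ⟨w, hzw, hmw⟩ := C.exists_pair ![z] (x := m) (by simpa using hzm)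
    have hDz : ∀ t, D z t = 0 := fun t => by rw [hDm, hxz, hmz, zero_mul, zero_mul, add_zero]
    have hzv' : B z v = 0 := hzv 0
    have hzw' : B z w = 0 := hzw 0
    by_cases h1 : D v v = 0
    swap
    · exact done z v v hz0 hQz hDz hzv' hzv' h1
    by_cases h2 : D w w = 0
    swap
    · exact done z w w hz0 hQz hDz hzw' hzw' h2
    refine done z v w hz0 hQz hDz hzv' hzw' fun h3 => ?_
    rw [hDm, hxv, one_mul, mul_one] at h1
    rw [hDm, hmw, mul_one, one_mul] at h2
    rw [hDm, hmw, hxv] at h3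
    have hmv : B m v = 0 := (mul_eq_zero.mp ((two_mul _).trans h1)).resolve_left C.two
    have hxw : B x w = 0 := (mul_eq_zero.mp ((two_mul _).trans h2)).resolve_left C.two
    rw [hmv, hxw] at h3
    simp at h3
  -- the forms differ by a double hyperplane: conjugate an Eichler map
  obtain ⟨a, ha⟩ := Submodule.mem_span_singleton.mp hmx'
  have ha0 : a ≠ 0 := fun e => hm0 (by rw [← ha, e, zero_smul])
  have hB2 : ∀ u v, B' u v = μ * B u v + 2 * a * (B x u * B x v) := fun u v => by
    have h := hDm u v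
    rw [hD, ← ha, map_smul, LinearMap.smul_apply, LinearMap.smul_apply, smul_eq_mul,
      smul_eq_mul] at h
    linear_combination h
  obtain ⟨r, hr⟩ := C.avec_surj (avec B x ᵥ* ((g⁻¹ : GL (Fin n) F) : Matrix (Fin n) (Fin n) F))
  have hrv : ∀ u, B r u = B x (((g⁻¹ : GL (Fin n) F) : Matrix (Fin n) (Fin n) F) *ᵥ u) := fun u => by
    rw [← avec_dot, hr, ← Matrix.dotProduct_mulVec, avec_dot]
  have hr0 : r ≠ 0 := fun h0 => by
    have h := hrv (G *ᵥ e)
    rw [GL_inv_mulVec, he, h0, map_zero, LinearMap.zero_apply] at h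
    exact zero_ne_one h
  obtain ⟨q, hq, -, hrq⟩ := C.exists_sing_pair (0 : Fin n → F) (Or.inr (Or.inl rfl)) (x := r)
    (by simpa using hr0)
  set v := ((g⁻¹ : GL (Fin n) F) : Matrix (Fin n) (Fin n) F) *ᵥ q with hv
  have hgv : G *ᵥ v = q := GL_mulVec_inv g q
  have hxv : B x v ≠ 0 := by rw [hv, ← hrv]; exact hrq
  have hQ'v : Q (G *ᵥ v) = 0 := by rw [hgv, hq]
  have hvv : B v v ≠ 0 := fun h => by
    have h1 := hB2 v v
    rw [hB', C.self, hQ'v, h, mul_zero, mul_zero, zero_add] at h1
    exact mul_ne_zero (mul_ne_zero C.two ha0) (mul_ne_zero hxv hxv) h1.symm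
  have hQv : Q v ≠ 0 := fun h => hvv (by rw [C.self, h, mul_zero])
  obtain ⟨p, hp, hvp, hxp⟩ := C.exists_sing_pair v (Or.inr (Or.inr hQv)) (x := x) (fun h => by
    obtain ⟨b, hb⟩ := Submodule.mem_span_singleton.mp h
    have h1 := congrArg Q hb
    rw [C.smul, hx, mul_eq_zero] at h1
    exact hx0 (by rw [← hb, (pow_eq_zero_iff two_ne_zero).mp (h1.resolve_right hQv), zero_smul]))
  obtain ⟨w, hw, hQw⟩ := C.exists_nonsingular_two ![p, v] (Or.inr ⟨1, 1, hvv⟩)
  have hpw : B p w = 0 := hw 0
  have hvw : B v w = 0 := hw 1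
  have hpv : B p v = 0 := by rw [C.symm, hvp]
  have hpp : B p p = 0 := by rw [C.self, hp, mul_zero]
  obtain ⟨k, hk, hke⟩ := hS p w hp hpw
  set g₂ := g * k * g⁻¹
  have hg₂ : g₂ ∈ L := L.mul_mem (L.mul_mem hg hk) (L.inv_mem hg)
  have hval : ∀ v, (g₂ : Matrix (Fin n) (Fin n) F) *ᵥ (G *ᵥ v) =
      G *ᵥ (eich Q B p w *ᵥ v) := fun v => by
    rw [Units.val_mul, Units.val_mul, ← Matrix.mulVec_mulVec, ← Matrix.mulVec_mulVec,
      GL_inv_mulVec, hke]
  have hkv : eich Q B p w *ᵥ v = v := by
    rw [eich_mulVec, hpv, C.symm w v, hvw, mul_zero, sub_zero, zero_smul, zero_smul, add_zero,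
      sub_zero]
  have hq0 : q ≠ 0 := fun e => hrq (by rw [e, map_zero])
  refine transvection_of_nlam C hS hg₂ hq0 hq (by rw [← hgv, hval, hkv]; exact hQ'v) ?_
  rintro ⟨ν, hν⟩
  set c := Q w * B x p + B x w with hc
  set r' := B x p • w - c • p with hr'
  have hr'v : ∀ u, B x (eich Q B p w *ᵥ u) = B x u + B r' u := fun u => by
    rw [eich_mulVec, map_sub, map_add, map_smul, map_smul, smul_eq_mul, smul_eq_mul, hr',
      map_sub, LinearMap.sub_apply, map_smul, map_smul, LinearMap.smul_apply, LinearMap.smul_apply,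
      smul_eq_mul, smul_eq_mul, hc]
    ring
  obtain ⟨u, hu, hru⟩ := C.exists_pair ![v, x] (x := r') (fun hmem => by
    obtain ⟨b, hb⟩ := (Submodule.mem_span_range_iff_exists_fun F).mp hmem
    rw [Fin.sum_univ_two] at hb
    simp only [Matrix.cons_val_zero, Matrix.cons_val_one, Matrix.cons_val_fin_one] at hb
    have h1 := congrArg (B p) hb
    simp only [hr', map_add, map_sub, map_smul, smul_eq_mul, hpv, hpw, hpp, C.symm p x, mul_zero,
      zero_add, sub_zero] at h1
    rw [(mul_eq_zero.mp h1).resolve_right hxp, zero_smul, add_zero] at hb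
    have h2 := congrArg (B v) hb
    simp only [hr', map_sub, map_smul, smul_eq_mul, hvw, hvp, mul_zero, sub_zero] at h2
    rw [(mul_eq_zero.mp h2).resolve_right hvv, zero_smul] at hb
    have h3 : B x p • w = c • p := sub_eq_zero.mp hb.symm
    have h4 := congrArg Q h3
    rw [C.smul, C.smul, hp, mul_zero] at h4
    exact mul_ne_zero (pow_ne_zero 2 hxp) hQw h4)
  have hvu : B v u = 0 := hu 0
  have hxu : B x u = 0 := hu 1
  have h1 := hν (G *ᵥ u)
  rw [← hgv, hval, hval, hkv, ← hB', ← hB', hB2, hB2, hr'v, hxu, hvu, hru] at h1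
  have h2 : B v (eich Q B p w *ᵥ u) = 0 := by
    conv_lhs => rw [← hkv]
    rw [isom_of_Q C (C.eich_Q hp hpw), hvu]
  rw [h2] at h1
  exact mul_ne_zero (mul_ne_zero C.two ha0) hxv (by linear_combination h1)

/-- For a finite field F of odd order, the similarities in SL₄ of a non-degenerate quadratic form
on F⁴ form a maximal subgroup of SL₄. -/
theorem isMaximalIn_quadratic_four {F : Type*} [Field F] [Fintype F]
    (hodd : Odd (Fintype.card F)) (Q : (Fin 4 → F) → F)
    (hQ : Cfsg.Geo.IsNondegenerateQuadraticForm Q) :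
    Cfsg.Geo.IsMaximalIn (Cfsg.Geo.specialLinear (Fin 4) F)
      (Cfsg.Geo.quadSimilarityGroup Q ⊓ Cfsg.Geo.specialLinear (Fin 4) F) :=
  isMaximalIn_quadratic_of 4 le_rfl hodd Q hQ fun B C L hS g hg hgQ z => by
    obtain ⟨u, s, h, hu, hsu⟩ := exists_transvection_four C hS hg hgQ
    exact full_of_one_four C hS h hu hsu z

end Cfsg.Lib.Linear.SLMax.Quad
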