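import Cfsg.Prelude.Def_GeometricClasses
import Cfsg.Agent.Lib.Linear.TransvectionMax

set_option autoImplicit false
open Cfsg

namespace Cfsg.Lib.Linear.SLMax.Symp

open scoped Matrix
open Cfsg.Lib.Linear Cfsg.Lib.Linear.TVec

variable {F : Type*} [Field F] {n : ℕ} {f : (Fin n → F) → (Fin n → F) → F}

/-- The functional `f (s, ·)` as a vector. -/
def avec (f : (Fin n → F) → (Fin n → F) → F) (s : Fin n → F) : Fin n → F :=
  fun i => f s (Pi.single i 1)

theorem avec_dot (hf : Cfsg.Geo.IsBilinearForm f) (s v : Fin n → F) : avec f s ⬝ᵥ v = f s v := by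
  let φ : (Fin n → F) →ₗ[F] F :=
    { toFun := f s
      map_add' := hf.add_right s
      map_smul' := fun c x => hf.smul_right c s x }
  show _ = φ v
  conv_rhs => rw [pi_eq_sum_univ' v]
  simp [dotProduct, avec, φ, mul_comm]

/-- `avec` is bijective. -/
theorem avec_surj (hf : Cfsg.Geo.IsSymplecticForm f) (a : Fin n → F) : ∃ s, avec f s = a := by
  let Φ : (Fin n → F) →ₗ[F] (Fin n → F) :=
    { toFun := avec f
      map_add' := fun x y => funext fun i => hf.bilinear.add_left x y _
      map_smul' := fun c x => funext fun i => hf.bilinear.smul_left c x _ }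
  have hinj : Function.Injective Φ := by
    rw [injective_iff_map_eq_zero]
    intro s hs
    by_contra hne
    obtain ⟨x, hx⟩ := (hf.nondegenerate s hne).2
    apply hx
    rw [← avec_dot hf.bilinear, show avec f s = 0 from hs, zero_dotProduct]
  exact LinearMap.surjective_of_injective hinj a

theorem f_sub_right (hf : Cfsg.Geo.IsBilinearForm f) (s x y : Fin n → F) :
    f s (x - y) = f s x - f s y := by
  rw [← avec_dot hf, ← avec_dot hf, ← avec_dot hf, dotProduct_sub]

theorem exists_perp_notMem (hf : Cfsg.Geo.IsSymplecticForm f) {u s : Fin n → F} (hu : u ≠ 0)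
    (hs : ∀ c : F, s ≠ c • u) : ∃ w, f w u = 0 ∧ f s w ≠ 0 := by
  by_contra hne
  push Not at hne
  obtain ⟨x, hx⟩ := (hf.nondegenerate u hu).2
  apply hs (f s x / f u x)
  by_contra hd
  obtain ⟨y, hy⟩ := (hf.nondegenerate _ (sub_ne_zero.mpr hd)).2
  apply hy
  have h0 : f u (y - (f u y / f u x) • x) = 0 := by
    rw [f_sub_right hf.bilinear, hf.bilinear.smul_right, div_mul_cancel₀ _ hx, sub_self]
  have h1 := hne _ (by rw [hf.skew, h0, neg_zero])
  rw [f_sub_right hf.bilinear, hf.bilinear.smul_right, sub_eq_zero] at h1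
  have h2 : ∀ a b : Fin n → F, f (a - b) y = f a y - f b y := fun a b => by
    rw [hf.skew, f_sub_right hf.bilinear, hf.skew y a, hf.skew y b]; ring
  rw [h2, hf.bilinear.smul_left, h1]
  ring

/-- Symplectic transvections lie in the similarity group and in `SL`. -/
theorem sym_tv_mem (hf : Cfsg.Geo.IsSymplecticForm f) (v : Fin n → F) (c : F)
    (h : (c • avec f v) ⬝ᵥ v = 0) :
    tv v (c • avec f v) h ∈ Cfsg.Geo.similarityGroup f ⊓ Cfsg.Geo.specialLinear (Fin n) F := by
  refine ⟨⟨1, fun x y => ?_⟩, tv_mem_SL _ _ h⟩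
  simp only [coe_tv, tvMat_mulVec, smul_dotProduct, avec_dot hf.bilinear, smul_eq_mul,
    Units.val_one, one_mul, hf.bilinear.add_left, hf.bilinear.add_right, hf.bilinear.smul_left,
    hf.bilinear.smul_right, hf.alternating, hf.skew x v]
  ring

/-- For a finite field F and n ≥ 4, let f be a non-degenerate symplectic form on F^n (so n is even). Then the elements of SL_n(F) that are similarities of f (f(gu, gv) = c f(u, v) for a non-zero scalar c depending on g) form a maximal subgroup of SL_n(F). -/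
theorem isMaximalIn_symplectic {F : Type*} [Field F] [Fintype F] (n : ℕ) (hn : 4 ≤ n) (f : (Fin n → F) → (Fin n → F) → F) (hf : Cfsg.Geo.IsSymplecticForm f) : Cfsg.Geo.IsMaximalIn (Cfsg.Geo.specialLinear (Fin n) F) (Cfsg.Geo.similarityGroup f ⊓ Cfsg.Geo.specialLinear (Fin n) F) := by
  have hb := hf.bilinear
  set N := Cfsg.Geo.similarityGroup f ⊓ Cfsg.Geo.specialLinear (Fin n) F with hN
  -- proper
  have hlt : N < Cfsg.Geo.specialLinear (Fin n) F := by
    refine lt_of_le_of_ne inf_le_right fun heq => ?_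
    let i0 : Fin n := ⟨0, by omega⟩
    have hv0 : (Pi.single i0 (1 : F) : Fin n → F) ≠ 0 := fun h =>
      one_ne_zero (α := F) (by simpa using congrFun h i0)
    set v : Fin n → F := Pi.single i0 1
    obtain ⟨w, hw⟩ := (hf.nondegenerate v hv0).2
    let φ : (Fin n → F) →ₗ[F] F :=
      { toFun := fun x => f x v
        map_add' := fun x y => hb.add_left x y v
        map_smul' := fun c x => hb.smul_left c x v }
    obtain ⟨s, hsφ, hs⟩ : ∃ s, φ s = 0 ∧ ∀ c : F, s ≠ c • v := by
      by_contra hne
      push Not at hne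
      have hle : LinearMap.ker φ ≤ Submodule.span F {v} := fun s hs => by
        obtain ⟨c, rfl⟩ := hne s hs
        exact Submodule.smul_mem _ c (Submodule.mem_span_singleton_self v)
      have h1 := Submodule.finrank_mono hle
      rw [finrank_span_singleton hv0] at h1
      have h2 := LinearMap.finrank_range_add_finrank_ker φ
      have h3 : Module.finrank F (LinearMap.range φ) ≤ 1 := by
        simpa using Submodule.finrank_le (LinearMap.range φ)
      rw [Module.finrank_fin_fun] at h2
      omega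
    have hav : avec f s ⬝ᵥ v = 0 := by rw [avec_dot hb]; exact hsφ
    obtain ⟨c, hc⟩ := (heq.ge (tv_mem_SL v (avec f s) hav)).1
    simp only [coe_tv, tvMat_mulVec, avec_dot hb, hb.add_left, hb.add_right, hb.smul_left,
      hb.smul_right, hf.alternating] at hc
    have hc1 : (c : F) = 1 := by
      have h := hc v w
      rw [show f s v = 0 from hsφ] at h
      simp only [hf.alternating, zero_mul, mul_zero, add_zero] at h
      exact mul_right_cancel₀ hw (by rw [one_mul]; exact h.symm)
    have key : ∀ x y, f s y * f x v + f s x * f v y = 0 := fun x y => by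
      have h := hc x y
      rw [hc1] at h
      linear_combination h
    apply hs (f s w / f v w)
    by_contra hd
    obtain ⟨y, hy⟩ := (hf.nondegenerate _ (sub_ne_zero.mpr hd)).2
    apply hy
    have h2 := key w y
    rw [hf.skew w v] at h2
    have h3 : f (s - (f s w / f v w) • v) y = f s y - f s w / f v w * f v y := by
      rw [hf.skew, f_sub_right hb, hb.smul_right, hf.skew y s, hf.skew y v]; ring
    rw [h3]
    field_simp
    linear_combination -h2
  refine isMaximalIn_of_SL_le hlt fun L hNL hLS hex => ?_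
  have hsym : ∀ (v : Fin n → F) (c : F), InT L v (c • avec f v) := fun v c =>
    ⟨by rw [smul_dotProduct, avec_dot hb, hf.alternating, smul_zero],
      hNL (sym_tv_mem hf v c _)⟩
  -- a transvection outside the similarity group
  obtain ⟨u, s, hu, hus, hs⟩ :
      ∃ u s, u ≠ 0 ∧ InT L u (avec f s) ∧ ∀ c : F, s ≠ c • u := by
    by_contra hno
    push Not at hno
    obtain ⟨g, hgL, hgN⟩ := hex
    apply hgN
    set G : Matrix (Fin n) (Fin n) F := (g : Matrix (Fin n) (Fin n) F)
    have hG0 : ∀ v, v ≠ 0 → G *ᵥ v ≠ 0 := by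
      intro v hv h
      apply hv
      have h2 := congrArg (fun x => ((g⁻¹ : GL (Fin n) F) : Matrix (Fin n) (Fin n) F) *ᵥ x) h
      simpa only [G, Matrix.mulVec_mulVec, ← Units.val_mul, inv_mul_cancel, Units.val_one,
        Matrix.one_mulVec, Matrix.mulVec_zero] using h2
    have hμ : ∀ v, v ≠ 0 → ∃ μ : F, ∀ y, f v y = μ * f (G *ᵥ v) (G *ᵥ y) := by
      intro v hv
      have h1 := inT_conj hgL (hsym v 1)
      obtain ⟨s, hs⟩ := avec_surj hf
        (((1 : F) • avec f v) ᵥ* ((g⁻¹ : GL (Fin n) F) : Matrix (Fin n) (Fin n) F))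
      rw [← hs] at h1
      obtain ⟨μ, rfl⟩ := hno _ s (hG0 v hv) h1
      refine ⟨μ, fun y => ?_⟩
      have h2 := congrArg (fun b => b ⬝ᵥ (G *ᵥ y)) hs
      simp only [G, dotProduct_vecMul_inv, one_smul, avec_dot hb, hb.smul_left] at h2
      exact h2.symm
    let i0 : Fin n := ⟨0, by omega⟩
    have hv0 : (Pi.single i0 (1 : F) : Fin n → F) ≠ 0 := fun h =>
      one_ne_zero (α := F) (by simpa using congrFun h i0)
    set v₀ : Fin n → F := Pi.single i0 1
    obtain ⟨μ₀, hμ₀⟩ := hμ v₀ hv0
    have hμ0 : μ₀ ≠ 0 := by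
      rintro rfl
      obtain ⟨x, hx⟩ := (hf.nondegenerate v₀ hv0).2
      exact hx (by rw [hμ₀, zero_mul])
    have hall : ∀ x y, f x y = μ₀ * f (G *ᵥ x) (G *ᵥ y) := by
      intro x
      by_cases hx0 : x = 0
      · intro y
        subst hx0
        rw [Matrix.mulVec_zero, ← avec_dot hb, ← avec_dot hb]
        have : avec f (0 : Fin n → F) = 0 := by
          funext i; simpa [avec] using hb.smul_left 0 0 (Pi.single i 1)
        simp [this]
      by_cases hxv : ∃ c : F, x = c • v₀
      · obtain ⟨c, rfl⟩ := hxv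
        intro y
        rw [hb.smul_left, hμ₀, Matrix.mulVec_smul, hb.smul_left]; ring
      push Not at hxv
      obtain ⟨μ, hμx⟩ := hμ x hx0
      obtain ⟨μ', hμ'⟩ := hμ (v₀ + x) (fun h => hxv (-1) (by
        rw [neg_smul, one_smul]; exact eq_neg_of_add_eq_zero_right h))
      suffices μ = μ₀ by subst this; exact hμx
      by_contra hne
      have hz : (μ₀ - μ') • v₀ + (μ - μ') • x = 0 := by
        by_contra hz
        obtain ⟨y, hy⟩ := (hf.nondegenerate _ (hG0 _ hz)).2
        apply hy
        obtain ⟨y', rfl⟩ : ∃ y', G *ᵥ y' = y :=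
          ⟨((g⁻¹ : GL (Fin n) F) : Matrix (Fin n) (Fin n) F) *ᵥ y, by
            rw [Matrix.mulVec_mulVec, ← Units.val_mul, mul_inv_cancel, Units.val_one,
              Matrix.one_mulVec]⟩
        have h := hμ' y'
        rw [hb.add_left, hμ₀, hμx, Matrix.mulVec_add, hb.add_left] at h
        rw [Matrix.mulVec_add, Matrix.mulVec_smul, Matrix.mulVec_smul, hb.add_left, hb.smul_left,
          hb.smul_left]
        linear_combination h
      have h1 : μ - μ' = 0 := by
        by_contra h1
        refine hxv (-((μ - μ')⁻¹ * (μ₀ - μ'))) ?_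
        rw [neg_smul, ← smul_smul, eq_neg_of_add_eq_zero_left hz, smul_neg, neg_neg, smul_smul,
          inv_mul_cancel₀ h1, one_smul]
      rw [h1, zero_smul, add_zero] at hz
      have h2 : μ₀ - μ' = 0 := (smul_eq_zero.mp hz).resolve_right hv0
      exact hne (by linear_combination h1 - h2)
    refine ⟨⟨(Units.mk0 μ₀ hμ0)⁻¹, fun x y => ?_⟩, hLS hgL⟩
    rw [hall x y, Units.val_inv_eq_inv_val, Units.val_mk0, inv_mul_cancel_left₀ hμ0]
  have hfsu : f s u = 0 := by rw [← avec_dot hb]; exact hus.choose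
  -- all transvections with centre `u`
  have hgen : ∀ w, f w u = 0 → f s w ≠ 0 → InT L u (avec f w) := by
    intro w hwu hsw
    have h := inT_comm hus (hsym w (f s w)⁻¹)
      (by rw [smul_dotProduct, avec_dot hb, hwu, smul_zero])
    rwa [avec_dot hb, smul_smul, mul_inv_cancel₀ hsw, one_smul] at h
  have hfull : Full L u := by
    intro a ha
    obtain ⟨w, rfl⟩ := avec_surj hf a
    rw [avec_dot hb] at ha
    by_cases hsw : f s w = 0
    · obtain ⟨w₁, hw₁, hsw₁⟩ := exists_perp_notMem hf hu hs
      have h1 := hgen (w + w₁) (by rw [hb.add_left, ha, hw₁, add_zero])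
        (by rw [hb.add_right, hsw, zero_add]; exact hsw₁)
      have h2 := inT_add_right h1 (inT_neg (hgen w₁ hw₁ hsw₁))
      have e : avec f (w + w₁) + -avec f w₁ = avec f w := by
        funext i
        simp [avec, hb.add_left]
      rwa [e] at h2
    · exact hgen w ha hsw
  -- transitivity
  have hstep : ∀ v w, Full L v → f v w ≠ 0 → Full L w := by
    intro v w hv hvw
    set d := w - v with hd
    have hdv : f d v ≠ 0 := by
      rw [hd, hf.skew, f_sub_right hb, hf.alternating, sub_zero]
      exact neg_ne_zero.mpr hvw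
    obtain ⟨h0, hg⟩ := hsym d (f d v)⁻¹
    have h := full_mulVec hg hv
    rw [coe_tv, tvMat_mulVec, smul_dotProduct, avec_dot hb, smul_eq_mul, inv_mul_cancel₀ hdv,
      one_smul, hd, add_sub_cancel] at h
    exact h
  intro z
  rcases eq_or_ne z 0 with rfl | hz
  · exact full_zero
  by_cases huz : f u z = 0
  · obtain ⟨x₁, hx₁⟩ := (hf.nondegenerate u hu).2
    obtain ⟨x₂, hx₂⟩ := (hf.nondegenerate z hz).1
    obtain ⟨x, hx, hx'⟩ : ∃ x, f u x ≠ 0 ∧ f x z ≠ 0 := by
      by_cases h1 : f x₁ z ≠ 0
      · exact ⟨x₁, hx₁, h1⟩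
      by_cases h2 : f u x₂ ≠ 0
      · exact ⟨x₂, h2, hx₂⟩
      push Not at h1 h2
      refine ⟨x₁ + x₂, ?_, ?_⟩
      · rw [hb.add_right, h2, add_zero]; exact hx₁
      · rw [hb.add_left, h1, zero_add]; exact hx₂
    exact hstep x z (hstep u x hfull hx) hx'
  · exact hstep u z hfull huz

end Cfsg.Lib.Linear.SLMax.Symp
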