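import Cfsg.Prelude.Def_GeometricClasses
import Cfsg.Agent.Lib.Linear.TransvectionMax
import Cfsg.Agent.Lib.Linear.Isotropic

set_option autoImplicit false
open Cfsg

namespace Cfsg.Lib.Linear.SLMax.Unit

open scoped Matrix
open Cfsg.Lib.Linear Cfsg.Lib.Linear.TVec

variable {F : Type*} [Field F] [Finite F] {n : ℕ} {σ : F →+* F}
  {B : (Fin n → F) →ₛₗ[σ] (Fin n → F) →ₗ[F] F}

/-- The functional `B s` as a vector. -/
def avec (B : (Fin n → F) →ₛₗ[σ] (Fin n → F) →ₗ[F] F) (s : Fin n → F) : Fin n → F :=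
  fun i => B s (Pi.single i 1)

theorem avec_dot (s v : Fin n → F) : avec B s ⬝ᵥ v = B s v := by
  conv_rhs => rw [pi_eq_sum_univ' v]
  simp [dotProduct, avec, mul_comm]

theorem smul_avec (c : F) (s : Fin n → F) : avec B (c • s) = σ c • avec B s := by
  funext i; simp [avec]

theorem add_avec (s t : Fin n → F) : avec B (s + t) = avec B s + avec B t := by
  funext i; simp [avec]

theorem avec_surj (hB : B.Nondegenerate) (a : Fin n → F) : ∃ s, avec B s = a := by
  have hinj : Function.Injective (avec B) := by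
    intro s t h
    rw [← sub_eq_zero]
    refine hB.1 _ fun x => ?_
    rw [map_sub, LinearMap.sub_apply, ← avec_dot, ← avec_dot, h, sub_self]
  exact Finite.injective_iff_surjective.mp hinj a

/-- Prescribed values against an independent family. -/
theorem exists_values (hσ2 : ∀ a, σ (σ a) = a) (hB : B.Nondegenerate) {k : ℕ}
    (s : Fin k → Fin n → F) (hs : ∀ c : Fin k → F, ∑ i, c i • s i = 0 → c = 0) (val : Fin k → F) :
    ∃ w, ∀ i, B (s i) w = val i := by
  let Φ : (Fin n → F) →ₗ[F] (Fin k → F) := LinearMap.pi fun i => B (s i)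
  suffices LinearMap.range Φ = ⊤ by
    obtain ⟨w, hw⟩ := LinearMap.range_eq_top.mp this val
    exact ⟨w, fun i => congrFun hw i⟩
  by_contra hne
  obtain ⟨φ, hφ, hle⟩ := Submodule.exists_le_ker_of_lt_top _ (lt_top_iff_ne_top.mpr hne)
  apply hφ
  have h0 : (fun i => σ (φ (Pi.single i 1))) = 0 := by
    refine hs _ (hB.1 _ fun x => ?_)
    have hx := LinearMap.mem_ker.mp (hle ⟨x, rfl⟩)
    rw [pi_eq_sum_univ' (Φ x), map_sum] at hx
    simp only [map_smul, smul_eq_mul] at hx
    rw [map_sum, LinearMap.sum_apply]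
    simp only [LinearMap.map_smulₛₗ, LinearMap.smul_apply, smul_eq_mul, hσ2]
    rw [← hx]
    exact Finset.sum_congr rfl fun i _ => mul_comm _ _
  refine LinearMap.ext fun y => ?_
  rw [pi_eq_sum_univ' y, map_sum, LinearMap.zero_apply]
  refine Finset.sum_eq_zero fun i _ => ?_
  have := congrFun h0 i
  simp only [Pi.zero_apply, map_eq_zero] at this
  rw [map_smul, this, smul_zero]

theorem indep_pair {x y : Fin n → F} (hx : x ≠ 0) (hy : ∀ c : F, y ≠ c • x) :
    ∀ c : Fin 2 → F, ∑ i, c i • (![x, y]) i = 0 → c = 0 := by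
  intro c hc
  simp only [Fin.sum_univ_two, Matrix.cons_val_zero, Matrix.cons_val_one] at hc
  have h1 : c 1 = 0 := by
    by_contra h
    refine hy (-((c 1)⁻¹ * c 0)) ?_
    rw [neg_smul, ← smul_smul, eq_neg_of_add_eq_zero_left hc, smul_neg, neg_neg, smul_smul,
      inv_mul_cancel₀ h, one_smul]
  rw [h1, zero_smul, add_zero] at hc
  have h0 : c 0 = 0 := (smul_eq_zero.mp hc).resolve_right hx
  funext i
  fin_cases i
  · exact h0
  · exact h1

theorem decompose (hσ2 : ∀ a, σ (σ a) = a) {τ : F} (hτ : σ τ ≠ τ) (l : F) :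
    ∃ a b : F, σ a = a ∧ σ b = b ∧ l = a + b * τ := by
  have hd : τ - σ τ ≠ 0 := sub_ne_zero.mpr (Ne.symm hτ)
  refine ⟨l - (l - σ l) / (τ - σ τ) * τ, (l - σ l) / (τ - σ τ), ?_, ?_, by ring⟩
  · have hd' : σ τ - τ ≠ 0 := sub_ne_zero.mpr hτ
    rw [map_sub, map_mul, map_div₀, map_sub, map_sub, hσ2, hσ2]
    field_simp
    ring
  · have hd' : σ τ - τ ≠ 0 := sub_ne_zero.mpr hτ
    rw [map_div₀, map_sub, map_sub, hσ2, hσ2]
    field_simp
    ring

/-- An isotropic vector with two prescribed values, not both zero. -/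
theorem exists_iso_two (hn : 4 ≤ n) (hσ : σ ≠ RingHom.id F) (hσ2 : ∀ a, σ (σ a) = a) (hS : B.IsSymm)
    (hB : B.Nondegenerate) (s : Fin 2 → Fin n → F)
    (hs : ∀ c : Fin 2 → F, ∑ i, c i • s i = 0 → c = 0) (val : Fin 2 → F) (hval : val ≠ 0) :
    ∃ w, B w w = 0 ∧ ∀ i, B (s i) w = val i := by
  obtain ⟨w₀, hw₀⟩ := exists_values hσ2 hB s hs val
  let K : Submodule F (Fin n → F) := LinearMap.ker (LinearMap.pi fun i => B (s i))
  have hK : ∀ {k}, k ∈ K → ∀ i, B (s i) k = 0 := fun hk i => congrFun (LinearMap.mem_ker.mp hk) i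
  have fin : ∀ k ∈ K, B k k = 0 → B w₀ k ≠ 0 → ∃ w, B w w = 0 ∧ ∀ i, B (s i) w = val i := by
    intro k hk hkk hne
    obtain ⟨t, ht⟩ := Herm.exists_trace_eq hσ hσ2 (a := -(B w₀ w₀))
      (by rw [map_neg, Herm.self_fixed hS])
    refine ⟨w₀ + (t / B w₀ k) • k, ?_, fun i => by
      rw [map_add, map_smul, hK hk i, smul_zero, add_zero, hw₀]⟩
    simp only [map_add, LinearMap.add_apply, LinearMap.map_smulₛₗ, LinearMap.smul_apply,
      RingHom.id_apply, smul_eq_mul, hkk, mul_zero, add_zero]
    rw [← hS.eq w₀ k, ← map_mul, div_mul_cancel₀ _ hne]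
    linear_combination ht
  by_cases hz : ∃ z ∈ K, B z z ≠ 0
  · obtain ⟨z, hzK, hzz⟩ := hz
    set w₁ := w₀ - (B z w₀ / B z z) • z with hw₁
    have hzw : B z w₁ = 0 := by
      rw [hw₁, map_sub, map_smul, smul_eq_mul, div_mul_cancel₀ _ hzz, sub_self]
    have hw₁' : ∀ i, B (s i) w₁ = val i := fun i => by
      rw [hw₁, map_sub, map_smul, hK hzK i, smul_zero, sub_zero, hw₀]
    by_cases h11 : B w₁ w₁ = 0
    · exact ⟨w₁, h11, hw₁'⟩
    obtain ⟨d, hd⟩ := Herm.exists_norm_fixed hσ hσ2 (a := -(B w₁ w₁) / B z z)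
      (div_ne_zero (neg_ne_zero.mpr h11) hzz)
      (by rw [map_div₀, map_neg, Herm.self_fixed hS, Herm.self_fixed hS])
    refine ⟨w₁ + d • z, ?_, fun i => by
      rw [map_add, map_smul, hK hzK i, smul_zero, add_zero, hw₁']⟩
    simp only [map_add, LinearMap.add_apply, LinearMap.map_smulₛₗ, LinearMap.smul_apply,
      RingHom.id_apply, smul_eq_mul, hzw, hS.isRefl _ _ hzw]
    field_simp at hd
    linear_combination hd
  push Not at hz
  by_cases hk : ∃ k ∈ K, B w₀ k ≠ 0
  · obtain ⟨k, hk, hne⟩ := hk; exact fin k hk (hz k hk) hne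
  push Not at hk
  exfalso
  -- now `K` is the span of the family, which is totally isotropic
  have hKK : ∀ a ∈ K, ∀ b ∈ K, B a b = 0 := by
    intro a ha b hb
    by_contra hab
    obtain ⟨τ, hτ⟩ : ∃ τ : F, σ τ ≠ τ := by
      by_contra hno
      push Not at hno
      exact hσ (RingHom.ext hno)
    have key : ∀ c : F, σ c * σ (B a b) + c * B a b = 0 := by
      intro c
      have h := hz (a + c • b) (K.add_mem ha (K.smul_mem c hb))
      simp only [map_add, LinearMap.add_apply, LinearMap.map_smulₛₗ, LinearMap.smul_apply,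
        RingHom.id_apply, smul_eq_mul, hz a ha, hz b hb, ← hS.eq a b] at h
      linear_combination h
    have h1 := key 1
    rw [map_one, one_mul, one_mul] at h1
    have h2 := key τ
    have : (τ - σ τ) * B a b = 0 := by linear_combination h2 - σ τ * h1
    exact hab ((mul_eq_zero.mp this).resolve_left (sub_ne_zero.mpr (Ne.symm hτ)))
  let S := Submodule.span F (Set.range s)
  have hperp : ∀ a, (∀ k ∈ K, B a k = 0) → a ∈ S := by
    intro a ha
    have hle : (⨅ i, LinearMap.ker (B (s i))) ≤ LinearMap.ker (B a) := fun x hx =>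
      ha x (LinearMap.mem_ker.mpr (funext fun i => (Submodule.mem_iInf _).mp hx i))
    obtain ⟨c, hc⟩ := (Submodule.mem_span_range_iff_exists_fun F).mp
      (mem_span_of_iInf_ker_le_ker hle)
    have e : a = ∑ i, σ (c i) • s i := by
      rw [← sub_eq_zero]
      refine hB.1 _ fun x => ?_
      rw [map_sub, LinearMap.sub_apply, map_sum, LinearMap.sum_apply, ← hc, LinearMap.sum_apply,
        sub_eq_zero]
      exact Finset.sum_congr rfl fun i _ => by
        rw [LinearMap.map_smulₛₗ, LinearMap.smul_apply, LinearMap.smul_apply, hσ2]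
    rw [e]
    exact Submodule.sum_mem _ fun i _ => Submodule.smul_mem _ _ (Submodule.subset_span ⟨i, rfl⟩)
  have hS2 : Module.finrank F S ≤ 2 := (finrank_range_le_card s).trans (Fintype.card_fin 2).le
  have hK2 : n ≤ Module.finrank F K + 2 := by
    have h2 := LinearMap.finrank_range_add_finrank_ker (LinearMap.pi fun i => B (s i))
    have h3 := Submodule.finrank_le (LinearMap.range (LinearMap.pi fun i => B (s i)))
    rw [Module.finrank_fin_fun] at h2 h3
    show n ≤ Module.finrank F (LinearMap.ker _) + 2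
    omega
  have hKS : K = S := Submodule.eq_of_le_of_finrank_le (fun a ha => hperp a (hKK a ha)) (by omega)
  have hw : w₀ ∈ K := hKS ▸ hperp w₀ hk
  exact hval (funext fun i => by rw [← hw₀ i, Pi.zero_apply]; exact hK hw i)

/-- The isometry `diag(l, 1 / σ l, σ l, 1 / l)` on two orthogonal hyperbolic pairs. -/
theorem exists_torus (hσ2 : ∀ a, σ (σ a) = a) (hS : B.IsSymm)
    {L : Subgroup (GL (Fin n) F)}
    (hisom : ∀ g ∈ Cfsg.Geo.specialLinear (Fin n) F, (∀ a b,
      B ((g : Matrix (Fin n) (Fin n) F) *ᵥ a) ((g : Matrix (Fin n) (Fin n) F) *ᵥ b) = B a b) → g ∈ L)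
    {u u' e f : Fin n → F} (huu : B u u = 0) (hu'u' : B u' u' = 0) (hee : B e e = 0)
    (hff : B f f = 0) (hu'u : B u' u = 1) (heu : B e u = 0) (heu' : B e u' = 0) (hfu : B f u = 0)
    (hfu' : B f u' = 0) (hfe : B f e = 1) {l : F} (hl : l ≠ 0) :
    ∃ g ∈ L, (g : Matrix (Fin n) (Fin n) F) *ᵥ u = l • u ∧
      (g : Matrix (Fin n) (Fin n) F) *ᵥ e = σ l • e ∧
      ∀ a b, B ((g : Matrix (Fin n) (Fin n) F) *ᵥ a) ((g : Matrix (Fin n) (Fin n) F) *ᵥ b) =
        B a b := by
  have hσl : σ l ≠ 0 := by simpa using hl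
  have hflip : ∀ {x y : Fin n → F}, B x y = 0 → B y x = 0 := fun h => hS.isRefl _ _ h
  have huu' : B u u' = 1 := by rw [← hS.eq u' u, hu'u, map_one]
  have hef : B e f = 1 := by rw [← hS.eq f e, hfe, map_one]
  let vs : Fin 4 → Fin n → F := ![u, u', e, f]
  let ds : Fin 4 → Fin n → F := ![u', u, f, e]
  let c : Fin 4 → F := ![l - 1, (σ l)⁻¹ - 1, σ l - 1, l⁻¹ - 1]
  let U : Matrix (Fin n) (Fin 4) F := Matrix.of fun i j => vs j i
  let V : Matrix (Fin 4) (Fin n) F := Matrix.of fun j => c j • avec B (ds j)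
  set G : Matrix (Fin n) (Fin n) F := 1 + U * V
  have hVU : V * U = Matrix.diagonal c := by
    ext i j
    have e : (V * U) i j = c i * B (ds i) (vs j) := by
      rw [← avec_dot, ← smul_eq_mul, ← smul_dotProduct]; rfl
    rw [e]
    fin_cases i <;> fin_cases j <;>
      simp [vs, ds, c, huu, hu'u', hee, hff, hu'u, huu', hfe, hef, heu, heu', hfu, hfu',
        hflip heu, hflip heu', hflip hfu, hflip hfu']
  have hdet : G.det = 1 := by
    show (1 + U * V).det = 1
    rw [Matrix.det_one_add_mul_comm, hVU, ← Matrix.diagonal_one, Matrix.diagonal_add,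
      Matrix.det_diagonal, Fin.prod_univ_four]
    simp [c]
    field_simp
  have hG : ∀ v, G *ᵥ v = v + ∑ j, (c j * B (ds j) v) • vs j := by
    intro v
    show (1 + U * V) *ᵥ v = _
    rw [Matrix.add_mulVec, Matrix.one_mulVec, ← Matrix.mulVec_mulVec]
    congr 1
    funext i
    rw [Finset.sum_apply]
    show ∑ j, U i j * (V *ᵥ v) j = _
    refine Finset.sum_congr rfl fun j _ => ?_
    have e : (V *ᵥ v) j = c j * B (ds j) v := by
      rw [← avec_dot, ← smul_eq_mul, ← smul_dotProduct]; rfl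
    rw [e, Pi.smul_apply, smul_eq_mul, mul_comm]
    rfl
  have hiso : ∀ a b, B (G *ᵥ a) (G *ᵥ b) = B a b := by
    intro a b
    rw [hG, hG]
    simp only [Fin.sum_univ_four, vs, ds, c, Matrix.cons_val_zero, Matrix.cons_val_one,
      Matrix.cons_val, map_add, LinearMap.add_apply, LinearMap.map_smulₛₗ, LinearMap.smul_apply,
      RingHom.id_apply, smul_eq_mul, huu, hu'u', hee, hff, hu'u, huu', hfe, hef, heu, heu', hfu,
      hfu', hflip heu, hflip heu', hflip hfu, hflip hfu', map_mul, map_sub, map_inv₀, map_one, hσ2]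
    rw [hS.eq u a, hS.eq u' a, hS.eq e a, hS.eq f a]
    field_simp
    ring
  refine ⟨Matrix.GeneralLinearGroup.mkOfDetNeZero G (by rw [hdet]; exact one_ne_zero),
    hisom _ (Units.ext hdet) hiso, ?_, ?_, hiso⟩
  · show G *ᵥ u = _
    rw [hG]
    simp [Fin.sum_univ_four, vs, ds, c, huu, hu'u, heu, hfu, sub_smul]
  · show G *ᵥ e = _
    rw [hG]
    simp [Fin.sum_univ_four, vs, ds, c, hee, hfe, hflip heu, hflip heu', sub_smul]

/-- Every element of the field is a difference of two squares or a square. -/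
theorem of_squares (P : F → Prop) (h0 : P 0) (hadd : ∀ a b, P a → P b → P (a + b))
    (hneg : ∀ a, P a → P (-a)) (hsq : ∀ t : F, t ≠ 0 → P (t * t)) (a : F) : P a := by
  have hsq' : ∀ t : F, P (t * t) := fun t => by
    rcases eq_or_ne t 0 with rfl | ht
    · rwa [mul_zero]
    · exact hsq t ht
  by_cases h2 : (2 : F) = 0
  · haveI := Fintype.ofFinite F
    haveI : CharP F 2 := CharTwo.of_one_ne_zero_of_two_eq_zero one_ne_zero h2
    obtain ⟨t, ht⟩ := FiniteField.isSquare_of_char_two (ringChar.eq F 2) a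
    exact ht ▸ hsq' t
  · have h4 : a = (a + 1) / 2 * ((a + 1) / 2) + -((a - 1) / 2 * ((a - 1) / 2)) := by
      field_simp
      ring
    rw [h4]
    exact hadd _ _ (hsq' _) (hneg _ (hsq' _))

theorem core (hn : 4 ≤ n) (hσ : σ ≠ RingHom.id F) (hσ2 : ∀ a, σ (σ a) = a) (hS : B.IsSymm)
    (hB : B.Nondegenerate) {L : Subgroup (GL (Fin n) F)}
    (hiso : ∀ w (c : F), B w w = 0 → σ c = -c → InT L w (c • avec B w))
    (hisom : ∀ g ∈ Cfsg.Geo.specialLinear (Fin n) F, (∀ a b,
      B ((g : Matrix (Fin n) (Fin n) F) *ᵥ a) ((g : Matrix (Fin n) (Fin n) F) *ᵥ b) = B a b) → g ∈ L)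
    {u₀ s₀ : Fin n → F} (hu₀ : u₀ ≠ 0) (hus₀ : InT L u₀ (avec B s₀))
    (hs₀ : ∀ c : F, s₀ ≠ c • u₀) : ∀ z, Full L z := by
  have hsymm : ∀ {x y}, B x y = 0 → B y x = 0 := fun h => hS.isRefl _ _ h
  obtain ⟨c₀, hc₀, hc₀'⟩ := Herm.exists_trace_zero hσ hσ2
  have hskew : ∀ a : F, σ a = a → σ (a * c₀) = -(a * c₀) := fun a ha => by
    rw [map_mul, ha]; linear_combination a * hc₀'
  have hdimV : Module.finrank F (Fin n → F) = n := Module.finrank_fin_fun F
  -- an isotropic centre
  obtain ⟨u, s, hu, huu, hus, hs⟩ : ∃ u s, u ≠ 0 ∧ B u u = 0 ∧ InT L u (avec B s) ∧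
      ∀ c : F, s ≠ c • u := by
    by_cases huu : B u₀ u₀ = 0
    · exact ⟨u₀, s₀, hu₀, huu, hus₀, hs₀⟩
    have hsu : B s₀ u₀ = 0 := by rw [← avec_dot]; exact hus₀.choose
    have hs0 : s₀ ≠ 0 := fun h => hs₀ 0 (by rw [h, zero_smul])
    obtain ⟨w, hww, hw⟩ := exists_iso_two hn hσ hσ2 hS hB ![u₀, s₀] (indep_pair hu₀ hs₀) ![1, 0]
      (by simp)
    have hwu : B u₀ w = 1 := hw 0
    have hws : B s₀ w = 0 := hw 1
    have hwu' : B w u₀ = 1 := by rw [← hS.eq u₀ w, hwu, map_one]
    have h := inT_comm (hiso w c₀ hww (by linear_combination hc₀')) hus₀ (by rw [avec_dot, hws])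
    refine ⟨w, σ (c₀ * 1) • s₀, fun h0 => by rw [h0, map_zero] at hwu; exact zero_ne_one hwu,
      hww, ?_, ?_⟩
    · rw [smul_avec, hσ2]
      rwa [smul_dotProduct, avec_dot, hwu', smul_eq_mul] at h
    · intro c hc
      have h1 := congrArg (B u₀) hc
      rw [map_smul, map_smul, hwu, hsymm hsu, smul_zero, smul_eq_mul, mul_one] at h1
      rw [← h1, zero_smul, smul_eq_zero] at hc
      exact hs0 (hc.resolve_left (by rw [mul_one]; simpa using hc₀))
  have hsu : B s u = 0 := by rw [← avec_dot]; exact hus.choose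
  have hus0 : B u s = 0 := hsymm hsu
  have hrule : ∀ (v w : Fin n → F) (l a : F), InT L u (l • avec B v) → B w w = 0 → B w u = 0 →
      σ a = a → InT L u ((l * B v w * (a * c₀)) • avec B w) := by
    intro v w l a hv hww hwu ha
    have h := inT_comm hv (hiso w (a * c₀) hww (hskew a ha))
      (by rw [smul_dotProduct, avec_dot, hwu, smul_zero])
    rwa [smul_smul, smul_dotProduct, avec_dot, smul_eq_mul] at h
  -- one full line
  obtain ⟨w2, hw2, hw2v⟩ := exists_iso_two hn hσ hσ2 hS hB ![u, s] (indep_pair hu hs) ![0, 1]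
    (by simp)
  have hw2u : B u w2 = 0 := hw2v 0
  have hw2s : B s w2 = 1 := hw2v 1
  have hindep : ∀ c : F, w2 ≠ c • u := fun c hc => by
    have := congrArg (B s) hc
    rw [hw2s, map_smul, hsu, smul_zero] at this
    exact one_ne_zero this
  have hline : ∀ l : F, InT L u (l • avec B w2) := by
    have h0 : InT L u (c₀ • avec B w2) := by
      have h := hrule s w2 1 1 (by rw [one_smul]; exact hus) hw2 (hsymm hw2u) (map_one σ)
      rwa [hw2s, one_mul, one_mul, one_mul] at h
    obtain ⟨u', hu'u', hu'⟩ := exists_iso_two hn hσ hσ2 hS hB ![u, w2] (indep_pair hu hindep) ![1, 0]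
      (by simp)
    obtain ⟨f₀, hf₀f₀, hf₀⟩ := exists_iso_two hn hσ hσ2 hS hB ![u, w2] (indep_pair hu hindep)
      ![0, 1] (by simp)
    have huu' : B u u' = 1 := hu' 0
    have hu'u : B u' u = 1 := by rw [← hS.eq u u', huu', map_one]
    have huf₀ : B u f₀ = 0 := hf₀ 0
    have hw2f₀ : B w2 f₀ = 1 := hf₀ 1
    set f := f₀ - B u' f₀ • u with hf
    have hu'f : B u' f = 0 := by rw [hf, map_sub, map_smul, hu'u, smul_eq_mul, mul_one, sub_self]
    have hff : B f f = 0 := by
      simp only [hf, map_sub, LinearMap.sub_apply, LinearMap.map_smulₛₗ, LinearMap.smul_apply,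
        RingHom.id_apply, smul_eq_mul, hf₀f₀, huf₀, hsymm huf₀, huu]
      ring
    have huf : B u f = 0 := by rw [hf, map_sub, map_smul, huf₀, huu, smul_zero, sub_zero]
    have hw2f : B w2 f = 1 := by
      rw [hf, map_sub, map_smul, hw2f₀, hsymm hw2u, smul_zero, sub_zero]
    have hfw2 : B f w2 = 1 := by rw [← hS.eq w2 f, hw2f, map_one]
    intro l
    have hP : InT L u ((l / c₀ * c₀) • avec B w2) := by
      refine of_squares (fun a => InT L u ((a * c₀) • avec B w2))
        (by rw [zero_mul, zero_smul]; exact inT_zero_right u)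
        (fun a b ha hb => by rw [add_mul, add_smul]; exact inT_add_right ha hb)
        (fun a ha => by rw [neg_mul, neg_smul]; exact inT_neg ha) (fun t ht => ?_) _
      obtain ⟨g, hg, hgu, hge, hgi⟩ := exists_torus hσ2 hS hisom huu hu'u' hw2 hff hu'u
        (hsymm hw2u) (hu' 1) (hsymm huf) (hsymm hu'f) hfw2 ht
      have h1 := inT_conj hg h0
      have e : (c₀ • avec B w2) ᵥ* ((g⁻¹ : GL (Fin n) F) : Matrix (Fin n) (Fin n) F) =
          (t * c₀) • avec B w2 := by
        have e1 : avec B w2 ᵥ* ((g⁻¹ : GL (Fin n) F) : Matrix (Fin n) (Fin n) F) =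
            t • avec B w2 := by
          funext i
          have h3 := congrArg (fun y => B w2 y) (show (Pi.single i 1 : Fin n → F) =
            (g : Matrix (Fin n) (Fin n) F) *ᵥ
              (((g⁻¹ : GL (Fin n) F) : Matrix (Fin n) (Fin n) F) *ᵥ Pi.single i 1) by
            rw [Matrix.mulVec_mulVec, ← Units.val_mul, mul_inv_cancel, Units.val_one,
              Matrix.one_mulVec])
          have h4 := hgi w2 (((g⁻¹ : GL (Fin n) F) : Matrix (Fin n) (Fin n) F) *ᵥ Pi.single i 1)
          rw [hge, LinearMap.map_smulₛₗ, LinearMap.smul_apply, hσ2, ← h3, smul_eq_mul,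
            ← avec_dot w2 (((g⁻¹ : GL (Fin n) F) : Matrix (Fin n) (Fin n) F) *ᵥ _),
            Matrix.dotProduct_mulVec, dotProduct_single, mul_one] at h4
          rw [← h4]
          rfl
        rw [Matrix.smul_vecMul, e1, smul_smul, mul_comm]
      rw [e, hgu] at h1
      have h2 := inT_smul_right h1
      rwa [smul_smul, ← mul_assoc] at h2
    rwa [div_mul_cancel₀ _ hc₀] at hP
  -- the whole of `u⊥`
  have hU : ∀ v, B u v = 0 → InT L u (avec B v) := by
    let W : Submodule F (Fin n → F) :=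
      { carrier := {v | ∀ l : F, InT L u (l • avec B v)}
        add_mem' := fun ha hb l => by rw [add_avec, smul_add]; exact inT_add_right (ha l) (hb l)
        zero_mem' := fun l => by
          rw [show avec B (0 : Fin n → F) = 0 from funext fun i => by simp [avec], smul_zero]
          exact inT_zero_right u
        smul_mem' := fun c v hv l => by rw [smul_avec, smul_smul]; exact hv _ }
    have key : ∀ w, B w w = 0 → B u w = 0 → B w2 w ≠ 0 → w ∈ W := by
      intro w hww huw hne l
      have h := hrule w2 w (l / (B w2 w * c₀)) 1 (hline _) hww (hsymm huw) (map_one σ)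
      rwa [show l / (B w2 w * c₀) * B w2 w * (1 * c₀) = l by field_simp] at h
    have hw20 : w2 ≠ 0 := fun h => by rw [h, map_zero] at hw2s; exact zero_ne_one hw2s
    obtain ⟨z, hzz, hz⟩ := exists_iso_two hn hσ hσ2 hS hB ![u, w2] (indep_pair hu hindep) ![0, 1]
      (by simp)
    have hzu : B u z = 0 := hz 0
    have hzw : B w2 z = 1 := hz 1
    have hzW : z ∈ W := key z hzz hzu (by rw [hzw]; exact one_ne_zero)
    intro v hv
    suffices v ∈ W by simpa using this 1
    let U : Submodule F (Fin n → F) := LinearMap.ker (B u)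
    have hUd : Module.finrank F (Fin n → F) + 2 ≤ 2 * Module.finrank F U := by
      have h4 := LinearMap.finrank_range_add_finrank_ker (B u)
      have h5 : Module.finrank F (LinearMap.range (B u)) ≤ 1 := by
        simpa using Submodule.finrank_le (LinearMap.range (B u))
      show _ ≤ 2 * Module.finrank F (LinearMap.ker (B u))
      omega
    refine Submodule.span_le.mpr ?_ (Herm.iso_span hσ hσ2 hS hB U hUd (show v ∈ U from hv))
    rintro w ⟨huw, hww⟩
    replace huw : B u w = 0 := huw
    by_cases hne : B w2 w = 0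
    · obtain ⟨t, ht0, ht⟩ : ∃ t : F, t ≠ 0 ∧ t * B w z + σ (t * B w z) = 0 := by
        by_cases hwz : B w z = 0
        · exact ⟨1, one_ne_zero, by rw [hwz, mul_zero, map_zero, add_zero]⟩
        · exact ⟨c₀ / B w z, div_ne_zero hc₀ hwz, by rw [div_mul_cancel₀ _ hwz]; exact hc₀'⟩
      have h1 : B (w + t • z) (w + t • z) = 0 := by
        simp only [map_add, LinearMap.add_apply, LinearMap.map_smulₛₗ, LinearMap.smul_apply,
          RingHom.id_apply, smul_eq_mul, hww, hzz, mul_zero, add_zero, zero_add]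
        rw [← hS.eq w z]
        rw [map_mul] at ht
        linear_combination ht
      have h2 := key (w + t • z) h1 (by rw [map_add, map_smul, huw, hzu, smul_zero, add_zero])
        (by rw [map_add, map_smul, hne, hzw, zero_add, smul_eq_mul, mul_one]; exact ht0)
      have h4 := W.sub_mem h2 (W.smul_mem t hzW)
      rwa [add_sub_cancel_right] at h4
    · exact key w hww huw hne
  have hfull : Full L u := by
    intro a ha
    obtain ⟨v, rfl⟩ := avec_surj hB a
    rw [avec_dot] at ha
    exact hU v (hsymm ha)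
  -- all isotropic centres
  have hscale : ∀ (c : F) v, Full L v → Full L (c • v) := by
    intro c v hv a ha
    refine inT_smul_left (hv _ ?_)
    rw [smul_dotProduct, ← dotProduct_smul]; exact ha
  have hstep : ∀ v z, Full L v → B v v = 0 → B z z = 0 → B v z ≠ 0 → Full L z := by
    intro v z hv hvv hzz hvz
    have hzv : B z v ≠ 0 := fun h => hvz (hsymm h)
    set l := -(c₀ * B z v)⁻¹ with hl
    set w := z + l • v with hw
    have hwv : B w v = B z v := by
      rw [hw, map_add, LinearMap.add_apply, LinearMap.map_smulₛₗ, LinearMap.smul_apply, hvv,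
        smul_zero, add_zero]
    have hlz : l * B z v = -c₀⁻¹ := by rw [hl]; field_simp
    have hww : B w w = 0 := by
      simp only [hw, map_add, LinearMap.add_apply, LinearMap.map_smulₛₗ, LinearMap.smul_apply,
        RingHom.id_apply, smul_eq_mul, hzz, hvv, mul_zero, add_zero, zero_add]
      rw [← hS.eq z v, ← map_mul, hlz, map_neg, map_inv₀,
        show σ c₀ = -c₀ by linear_combination hc₀', inv_neg, neg_neg, add_neg_cancel]
    obtain ⟨h0, hg⟩ := hiso w c₀ hww (by linear_combination hc₀')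
    have h := full_mulVec hg hv
    rw [coe_tv, tvMat_mulVec, smul_dotProduct, avec_dot, hwv, smul_eq_mul, hw, smul_add,
      smul_smul, show c₀ * B z v * l = -1 by rw [mul_assoc, mul_comm (B z v), hlz]; field_simp,
      neg_smul, one_smul, add_comm ((c₀ * B z v) • z), add_neg_cancel_left] at h
    have h2 := hscale (c₀ * B z v)⁻¹ _ h
    rwa [smul_smul, inv_mul_cancel₀ (mul_ne_zero hc₀ hzv), one_smul] at h2
  have hisofull : ∀ z, B z z = 0 → Full L z := by
    intro z hzz
    by_cases hdep : ∃ c : F, z = c • u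
    · obtain ⟨c, rfl⟩ := hdep; exact hscale c u hfull
    push Not at hdep
    by_cases huz : B u z = 0
    · obtain ⟨x, hxx, hx⟩ := exists_iso_two hn hσ hσ2 hS hB ![u, z] (indep_pair hu hdep) ![1, 1]
        (by simp)
      have h1 : B u x = 1 := hx 0
      have h2 : B z x = 1 := hx 1
      exact hstep x z (hstep u x hfull huu hxx (by rw [h1]; exact one_ne_zero)) hxx hzz
        (fun h => one_ne_zero (h2.symm.trans (hsymm h)))
    · exact hstep u z hfull huu hzz huz
  intro z a ha
  obtain ⟨v, rfl⟩ := avec_surj hB a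
  let T : Submodule F (Fin n → F) :=
    { carrier := {z | ∀ c : F, InT L (c • z) (avec B v)}
      add_mem' := fun ha hb c => by rw [smul_add]; exact inT_add_left (ha c) (hb c)
      zero_mem' := fun c => by rw [smul_zero]; exact inT_zero_left _
      smul_mem' := fun d x hx c => by rw [smul_smul]; exact hx _ }
  suffices z ∈ T by simpa using this 1
  let U : Submodule F (Fin n → F) := LinearMap.ker (B v)
  have hUd : Module.finrank F (Fin n → F) + 2 ≤ 2 * Module.finrank F U := by
    have h4 := LinearMap.finrank_range_add_finrank_ker (B v)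
    have h5 : Module.finrank F (LinearMap.range (B v)) ≤ 1 := by
      simpa using Submodule.finrank_le (LinearMap.range (B v))
    show _ ≤ 2 * Module.finrank F (LinearMap.ker (B v))
    omega
  have hzU : z ∈ U := by rw [avec_dot] at ha; exact ha
  refine Submodule.span_le.mpr ?_ (Herm.iso_span hσ hσ2 hS hB U hUd hzU)
  rintro w ⟨hvw, hww⟩ c
  refine hscale c w (hisofull w hww) _ ?_
  rw [avec_dot, map_smul, show B v w = 0 from hvw, smul_zero]

/-- For a finite field F and n ≥ 4, let σ be a field automorphism of F of order two and f a non-degenerate unitary form on F^n with respect to σ. Then the elements of SL_n(F) that are similarities of f form a maximal subgroup of SL_n(F). -/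
theorem isMaximalIn_unitary {F : Type*} [Field F] [Fintype F] (n : ℕ) (hn : 4 ≤ n) (σ : F ≃+* F) (f : (Fin n → F) → (Fin n → F) → F) (hf : Cfsg.Geo.IsUnitaryForm σ f) : Cfsg.Geo.IsMaximalIn (Cfsg.Geo.specialLinear (Fin n) F) (Cfsg.Geo.similarityGroup f ⊓ Cfsg.Geo.specialLinear (Fin n) F) := by
  let σ' : F →+* F := σ.toRingHom
  have hσ : σ' ≠ RingHom.id F := fun h => hf.ne_refl (RingEquiv.ext fun x => RingHom.congr_fun h x)
  have hσ2 : ∀ a, σ' (σ' a) = a := hf.involutive
  have hadd_right : ∀ x y v : Fin n → F, f v (x + y) = f v x + f v y := fun x y v => by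
    rw [hf.herm, hf.add_left, map_add, ← hf.herm, ← hf.herm]
  have hsmul_right : ∀ (c : F) (x v : Fin n → F), f v (c • x) = σ c * f v x := fun c x v => by
    rw [hf.herm, hf.smul_left, map_mul, ← hf.herm]
  let B : (Fin n → F) →ₛₗ[σ'] (Fin n → F) →ₗ[F] F :=
    { toFun := fun x =>
        { toFun := fun y => f y x
          map_add' := fun y z => hf.add_left y z x
          map_smul' := fun c y => hf.smul_left c y x }
      map_add' := fun x y => LinearMap.ext fun v => hadd_right x y v
      map_smul' := fun c x => LinearMap.ext fun v => hsmul_right c x v }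
  have hBf : ∀ x y, B x y = f y x := fun _ _ => rfl
  have hS : B.IsSymm := ⟨fun x y => (hf.herm x y).symm⟩
  have hB : B.Nondegenerate := by
    constructor
    · intro x hx
      by_contra hne
      obtain ⟨y, hy⟩ := (hf.nondegenerate x hne).1
      exact hy (hx y)
    · intro y hy
      by_contra hne
      obtain ⟨x, hx⟩ := (hf.nondegenerate y hne).2
      exact hx (hy x)
  have hdimV : Module.finrank F (Fin n → F) = n := Module.finrank_fin_fun F
  have hmemN : ∀ (w : Fin n → F) (c : F), B w w = 0 → σ' c = -c →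
      ∀ h, tv w (c • avec B w) h ∈
        Cfsg.Geo.similarityGroup f ⊓ Cfsg.Geo.specialLinear (Fin n) F := by
    intro w c hww hc h
    refine ⟨⟨1, fun x y => ?_⟩, tv_mem_SL _ _ h⟩
    rw [Units.val_one, one_mul, coe_tv, tvMat_mulVec, tvMat_mulVec, smul_dotProduct,
      smul_dotProduct, avec_dot, avec_dot, smul_eq_mul, smul_eq_mul, ← hBf, ← hBf]
    simp only [map_add, LinearMap.add_apply, LinearMap.map_smulₛₗ, LinearMap.smul_apply,
      RingHom.id_apply, smul_eq_mul, hww, mul_zero, add_zero, map_mul, hc]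
    rw [hS.eq w y]
    ring
  have hlt : Cfsg.Geo.similarityGroup f ⊓ Cfsg.Geo.specialLinear (Fin n) F <
      Cfsg.Geo.specialLinear (Fin n) F := by
    refine lt_of_le_of_ne inf_le_right fun heq => ?_
    obtain ⟨v, -, hv0, hvv⟩ := Herm.exists_iso_ne_zero hσ hσ2 hS ⊤
      (by rw [finrank_top]; omega)
    obtain ⟨p, hp⟩ : ∃ p, B v p ≠ 0 := by
      by_contra h; push Not at h; exact hv0 (hB.1 v h)
    have h2 : ⊥ < LinearMap.ker (B v) ⊓ LinearMap.ker (B p) := by
      rw [bot_lt_iff_ne_bot]
      intro h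
      have h1 := Submodule.finrank_sup_add_finrank_inf_eq (LinearMap.ker (B v)) (LinearMap.ker (B p))
      rw [h, finrank_bot] at h1
      have h2 := LinearMap.finrank_range_add_finrank_ker (B v)
      have h3 := LinearMap.finrank_range_add_finrank_ker (B p)
      have h4 : Module.finrank F (LinearMap.range (B v)) ≤ 1 := by
        simpa using Submodule.finrank_le (LinearMap.range (B v))
      have h5 : Module.finrank F (LinearMap.range (B p)) ≤ 1 := by
        simpa using Submodule.finrank_le (LinearMap.range (B p))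
      have h6 := Submodule.finrank_le (LinearMap.ker (B v) ⊔ LinearMap.ker (B p))
      omega
    obtain ⟨s, ⟨hvs, hps⟩, hs0⟩ := Submodule.exists_mem_ne_zero_of_ne_bot (bot_lt_iff_ne_bot.mp h2)
    replace hvs : B v s = 0 := hvs
    replace hps : B p s = 0 := hps
    have hsv' : ∀ c : F, s ≠ c • v := by
      intro c hc
      rw [hc, map_smul, smul_eq_mul, mul_eq_zero] at hps
      rcases hps with h | h
      · exact hs0 (by rw [hc, h, zero_smul])
      · exact hp (hS.isRefl _ _ h)
    have hsv : B s v = 0 := hS.isRefl _ _ hvs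
    have ha : avec B s ⬝ᵥ v = 0 := by rw [avec_dot]; exact hsv
    obtain ⟨c, hc⟩ := (heq.ge (tv_mem_SL v (avec B s) ha)).1
    simp only [coe_tv, tvMat_mulVec, avec_dot, ← hBf, map_add, LinearMap.add_apply,
      LinearMap.map_smulₛₗ, LinearMap.smul_apply, RingHom.id_apply, smul_eq_mul] at hc
    obtain ⟨x, hx⟩ := exists_values hσ2 hB ![v, s] (indep_pair hv0 hsv') ![0, 1]
    have hxv : B v x = 0 := hx 0
    have hxs : B s x = 1 := hx 1
    have h1 := hc x p
    have hxv' : B x v = 0 := hS.isRefl _ _ hxv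
    have hc1 : (c : F) = 1 := by
      have h := hc v p
      rw [hsv, hvv] at h
      simp only [zero_mul, mul_zero, add_zero] at h
      exact mul_right_cancel₀ (fun h0 => hp (hS.isRefl _ _ h0)) (by rw [one_mul]; exact h.symm)
    rw [hxs, hvv, hc1] at h1
    simp only [mul_zero, add_zero, one_mul, hxv] at h1
    have hpv : B p v ≠ 0 := fun h0 => hp (hS.isRefl _ _ h0)
    exact hpv (by linear_combination h1)
  refine isMaximalIn_of_SL_le hlt fun L hNL hLS hex => ?_
  have hiso : ∀ w (c : F), B w w = 0 → σ' c = -c → InT L w (c • avec B w) := fun w c hww hc =>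
    ⟨by rw [smul_dotProduct, avec_dot, hww, smul_zero], hNL (hmemN w c hww hc _)⟩
  obtain ⟨u, s, hu, hus, hs⟩ : ∃ u s, u ≠ 0 ∧ InT L u (avec B s) ∧ ∀ c : F, s ≠ c • u := by
    by_contra hno
    push Not at hno
    obtain ⟨g, hgL, hgN⟩ := hex
    apply hgN
    set G : Matrix (Fin n) (Fin n) F := (g : Matrix (Fin n) (Fin n) F)
    have hG0 : ∀ v, v ≠ 0 → G *ᵥ v ≠ 0 := by
      intro v hv h
      apply hv
      have h2 := congrArg (fun x => ((g⁻¹ : GL (Fin n) F) : Matrix (Fin n) (Fin n) F) *ᵥ x) h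
      simpa only [G, Matrix.mulVec_mulVec, ← Units.val_mul, inv_mul_cancel, Units.val_one,
        Matrix.one_mulVec, Matrix.mulVec_zero] using h2
    obtain ⟨c₀, hc₀, hc₀'⟩ := Herm.exists_trace_zero hσ hσ2
    have hμ : ∀ v, v ≠ 0 → B v v = 0 → ∃ μ : F, ∀ y, B v y = μ * B (G *ᵥ v) (G *ᵥ y) := by
      intro v hv hvv
      have h1 := inT_conj hgL (hiso v c₀ hvv (by linear_combination hc₀'))
      obtain ⟨s, hs⟩ := avec_surj hB
        ((c₀ • avec B v) ᵥ* ((g⁻¹ : GL (Fin n) F) : Matrix (Fin n) (Fin n) F))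
      rw [← hs] at h1
      obtain ⟨d, rfl⟩ := hno _ s (hG0 v hv) h1
      refine ⟨σ' d / c₀, fun y => ?_⟩
      have h2 := congrArg (fun b => b ⬝ᵥ (G *ᵥ y)) hs
      simp only [G, dotProduct_vecMul_inv, smul_dotProduct, avec_dot, LinearMap.map_smulₛₗ,
        LinearMap.smul_apply, smul_eq_mul] at h2
      rw [div_mul_eq_mul_div, h2, mul_div_cancel_left₀ _ hc₀]
    choose μ hμ using hμ
    have hpair : ∀ v w (hv : v ≠ 0) (hvv : B v v = 0) (hw : w ≠ 0) (hww : B w w = 0),
        B v w ≠ 0 → μ v hv hvv = σ' (μ w hw hww) := by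
      intro v w hv hvv hw hww hne
      have h1 := hμ v hv hvv w
      have h2 := congrArg σ' (hμ w hw hww v)
      rw [map_mul, hS.eq, hS.eq] at h2
      have hne' : B (G *ᵥ v) (G *ᵥ w) ≠ 0 := fun h => hne (by rw [h1, h, mul_zero])
      exact mul_right_cancel₀ hne' (h1.symm.trans h2)
    obtain ⟨e, -, he0, hee⟩ := Herm.exists_iso_ne_zero hσ hσ2 hS ⊤
      (by rw [finrank_top]; omega)
    have hconst : ∀ v (hv : v ≠ 0) (hvv : B v v = 0), μ v hv hvv = μ e he0 hee := by
      intro v hv hvv
      by_cases hdep : ∃ c : F, v = c • e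
      · obtain ⟨c, rfl⟩ := hdep
        have hc : c ≠ 0 := fun h => hv (by rw [h, zero_smul])
        obtain ⟨y, hy⟩ : ∃ y, B e y ≠ 0 := by
          by_contra h; push Not at h; exact he0 (hB.1 e h)
        have h1 := hμ _ hv hvv y
        rw [LinearMap.map_smulₛₗ, LinearMap.smul_apply, hμ e he0 hee y, smul_eq_mul,
          Matrix.mulVec_smul, LinearMap.map_smulₛₗ, LinearMap.smul_apply, smul_eq_mul] at h1
        have hne : B (G *ᵥ e) (G *ᵥ y) ≠ 0 := fun h => hy (by rw [hμ e he0 hee y, h, mul_zero])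
        have hσc : σ' c ≠ 0 := by simpa using hc
        exact (mul_right_cancel₀ (mul_ne_zero hσc hne) (by linear_combination h1)).symm
      push Not at hdep
      obtain ⟨z, hzz, hz⟩ := exists_iso_two hn hσ hσ2 hS hB ![e, v] (indep_pair he0 hdep) ![1, 1]
        (by simp)
      have hz1 : B e z ≠ 0 := by
        have h := hz 0
        simp only [Matrix.cons_val_zero] at h
        rw [h]; exact one_ne_zero
      have hz2 : B v z ≠ 0 := by
        have h := hz 1
        simp only [Matrix.cons_val_one, Matrix.cons_val_fin_one] at h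
        rw [h]; exact one_ne_zero
      have hz0 : z ≠ 0 := fun h => hz1 (by rw [h, map_zero])
      rw [hpair v z hv hvv hz0 hzz hz2, hpair e z he0 hee hz0 hzz hz1]
    obtain ⟨p, hp⟩ : ∃ p, B e p ≠ 0 := by
      by_contra h; push Not at h; exact he0 (hB.1 e h)
    have hall : ∀ x y, B x y = μ e he0 hee * B (G *ᵥ x) (G *ᵥ y) := by
      intro x
      let W : Submodule F (Fin n → F) :=
        { carrier := {x | ∀ y, B x y = μ e he0 hee * B (G *ᵥ x) (G *ᵥ y)}
          add_mem' := fun {a b} ha hb y => by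
            rw [map_add, LinearMap.add_apply, Matrix.mulVec_add, map_add, LinearMap.add_apply,
              ha y, hb y, mul_add]
          zero_mem' := fun y => by simp
          smul_mem' := fun c a ha y => by
            rw [LinearMap.map_smulₛₗ, LinearMap.smul_apply, Matrix.mulVec_smul,
              LinearMap.map_smulₛₗ, LinearMap.smul_apply, ha y, smul_eq_mul, smul_eq_mul]
            ring }
      have htop := Herm.iso_span hσ hσ2 hS hB ⊤ (by rw [finrank_top]; omega)
        (Submodule.mem_top (x := x))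
      suffices x ∈ W from this
      refine (Submodule.span_le (p := W)).mpr ?_ htop
      rintro v ⟨-, hvv⟩ y
      rcases eq_or_ne v 0 with rfl | hv
      · simp
      rw [hμ v hv hvv y, hconst v hv hvv]
    have hμ0 : μ e he0 hee ≠ 0 := fun h => hp (by rw [hall e p, h, zero_mul])
    refine ⟨⟨(Units.mk0 _ hμ0)⁻¹, fun x y => ?_⟩, hLS hgL⟩
    rw [← hBf, ← hBf, hall y x, Units.val_inv_eq_inv_val, Units.val_mk0, inv_mul_cancel_left₀ hμ0]
  have hisom : ∀ g ∈ Cfsg.Geo.specialLinear (Fin n) F, (∀ a b,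
      B ((g : Matrix (Fin n) (Fin n) F) *ᵥ a) ((g : Matrix (Fin n) (Fin n) F) *ᵥ b) = B a b) →
      g ∈ L := fun g hg h => hNL ⟨⟨1, fun x y => by
    rw [Units.val_one, one_mul, ← hBf, ← hBf, h]⟩, hg⟩
  exact core hn hσ hσ2 hS hB hiso hisom hu hus hs

end Cfsg.Lib.Linear.SLMax.Unit
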